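import Groth.Agent.AlgSpLib.ReducedSmooth
import Groth.Agent.CohenLib.RegularField
import Groth.Agent.PurityLib.Extend
import Mathlib.RingTheory.AdjoinRoot
import Mathlib.RingTheory.Polynomial.Eisenstein.Basic

/-! Auxiliary facts: the root extension, smooth algebras, open pieces. -/

set_option autoImplicit false
set_option linter.style.haveILetI false
set_option maxHeartbeats 1000000
universe u

noncomputable section

open CategoryTheory CategoryTheory.Limits AlgebraicGeometry TopologicalSpace Opposite Polynomial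
open scoped TensorProduct

namespace AbhyCurve

theorem root_extension (A : Type u) [CommRing A] [IsDomain A] [IsDiscreteValuationRing A] (π : A)
    (hπ : Irreducible π) (n : ℕ) (hn : 1 ≤ n) :
    ∃ (_ : IsDomain (AdjoinRoot (X ^ n - C π : A[X]))) (_ : IsDiscreteValuationRing (AdjoinRoot (X ^ n - C π : A[X]))),
      IsLocalRing.maximalIdeal (AdjoinRoot (X ^ n - C π : A[X])) = Ideal.span {AdjoinRoot.root (X ^ n - C π : A[X])} ∧
      AdjoinRoot.root (X ^ n - C π : A[X]) ^ n = algebraMap A (AdjoinRoot (X ^ n - C π : A[X])) π := by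
  classical
  have hm : (X ^ n - C π : A[X]).Monic := monic_X_pow_sub_C _ (by omega)
  have hmax : IsLocalRing.maximalIdeal A = Ideal.span {π} := (IsDiscreteValuationRing.irreducible_iff_uniformizer π).1 hπ
  have hπ0 : π ≠ 0 := hπ.ne_zero
  have hdeg : (X ^ n - C π : A[X]).natDegree = n := natDegree_X_pow_sub_C
  have hcoeff : ∀ i, i < n → (X ^ n - C π : A[X]).coeff i = if i = 0 then -π else 0 := fun i hi => by
    simp only [coeff_sub, coeff_X_pow, coeff_C, if_neg hi.ne]
    split_ifs <;> simp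
  have hirr : Irreducible (X ^ n - C π : A[X]) := by
    refine IsEisensteinAt.irreducible (𝓟 := IsLocalRing.maximalIdeal A) ?_ inferInstance hm.isPrimitive (by omega)
    refine ⟨?_, fun {i} hi => ?_, ?_⟩
    · rw [hm.leadingCoeff]; exact fun h => (IsLocalRing.maximalIdeal.isMaximal A).ne_top ((Ideal.eq_top_iff_one _).2 h)
    · rw [hcoeff i (hdeg ▸ hi)]
      split_ifs
      · exact neg_mem (hmax ▸ Ideal.mem_span_singleton_self π)
      · exact zero_mem _
    · rw [hcoeff 0 (by omega), if_pos rfl, hmax, Ideal.span_singleton_pow, Ideal.mem_span_singleton, dvd_neg]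
      rintro ⟨c, hc⟩
      refine hπ.not_isUnit (IsUnit.of_mul_eq_one c ?_)
      exact mul_left_cancel₀ hπ0 (by rw [mul_one, ← mul_assoc, ← sq]; exact hc.symm)
  haveI hdom : IsDomain (AdjoinRoot (X ^ n - C π : A[X])) := AdjoinRoot.isDomain_of_prime hirr.prime
  haveI : Module.Finite A (AdjoinRoot (X ^ n - C π : A[X])) := hm.finite_adjoinRoot
  haveI : Algebra.IsIntegral A (AdjoinRoot (X ^ n - C π : A[X])) := Algebra.IsIntegral.of_finite _ _
  haveI : IsNoetherianRing (AdjoinRoot (X ^ n - C π : A[X])) := IsNoetherianRing.of_finite A _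
  let x : AdjoinRoot (X ^ n - C π : A[X]) := AdjoinRoot.root _
  let ι := algebraMap A (AdjoinRoot (X ^ n - C π : A[X]))
  have hxn : x ^ n = ι π := by
    have h := AdjoinRoot.eval₂_root (X ^ n - C π : A[X])
    rw [eval₂_sub, eval₂_pow, eval₂_X, eval₂_C, sub_eq_zero] at h
    exact h
  have hinj : Function.Injective ι := AdjoinRoot.of.injective_of_degree_ne_zero (by
    rw [degree_eq_natDegree hm.ne_zero, hdeg]; exact_mod_cast (show n ≠ 0 by omega))
  have hx0 : x ≠ 0 := fun h => hπ0 (hinj (by rw [← hxn, h, zero_pow (by omega), map_zero]))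
  have hdec : ∀ z, ∃ (a : A) (c : AdjoinRoot (X ^ n - C π : A[X])), z = ι a + x * c := fun z => by
    obtain ⟨p, rfl⟩ := AdjoinRoot.mk_surjective z
    refine ⟨p.coeff 0, AdjoinRoot.mk _ p.divX, ?_⟩
    conv_lhs => rw [← p.X_mul_divX_add]
    rw [map_add, map_mul, AdjoinRoot.mk_X, add_comm]
    rfl
  have hM : ∀ M : Ideal (AdjoinRoot (X ^ n - C π : A[X])), M.IsMaximal → M = Ideal.span {x} := by
    intro M hM
    haveI : (M.comap ι).IsMaximal := Ideal.isMaximal_comap_of_isIntegral_of_isMaximal M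
    have h1 : M.comap ι = IsLocalRing.maximalIdeal A := IsLocalRing.eq_maximalIdeal inferInstance
    have hx : x ∈ M := hM.isPrime.mem_of_pow_mem n (by
      rw [hxn]; exact Ideal.mem_comap.1 (h1 ▸ hmax ▸ Ideal.mem_span_singleton_self π))
    refine le_antisymm (fun z hz => ?_) ((Ideal.span_singleton_le_iff_mem _).2 hx)
    obtain ⟨a, c, rfl⟩ := hdec z
    have ha : a ∈ IsLocalRing.maximalIdeal A := by
      rw [← h1, Ideal.mem_comap]
      simpa using sub_mem hz (M.mul_mem_right c hx)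
    obtain ⟨b, rfl⟩ := Ideal.mem_span_singleton'.1 (hmax ▸ ha)
    refine add_mem ?_ (Ideal.mul_mem_right _ _ (Ideal.mem_span_singleton_self x))
    rw [map_mul, ← hxn]
    exact Ideal.mul_mem_left _ _ (Ideal.pow_mem_of_mem _ (Ideal.mem_span_singleton_self x) n (by omega))
  haveI : IsLocalRing (AdjoinRoot (X ^ n - C π : A[X])) := by
    obtain ⟨M, hMx⟩ := Ideal.exists_maximal (AdjoinRoot (X ^ n - C π : A[X]))
    exact IsLocalRing.of_unique_max_ideal ⟨M, hMx, fun M' h' => ((hM M' h').trans (hM M hMx).symm)⟩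
  have hmx : IsLocalRing.maximalIdeal (AdjoinRoot (X ^ n - C π : A[X])) = Ideal.span {x} := hM _ inferInstance
  have hnf : ¬ IsField (AdjoinRoot (X ^ n - C π : A[X])) := fun h => by
    have := IsLocalRing.isField_iff_maximalIdeal_eq.1 h
    rw [hmx, Ideal.span_singleton_eq_bot] at this
    exact hx0 this
  haveI hdvr : IsDiscreteValuationRing (AdjoinRoot (X ^ n - C π : A[X])) :=
    ((IsDiscreteValuationRing.TFAE _ hnf).out 4 0).1 (⟨x, hmx⟩ : (IsLocalRing.maximalIdeal (AdjoinRoot (X ^ n - C π : A[X]))).IsPrincipal)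
  exact ⟨hdom, hdvr, hmx, hxn⟩

/-- A smooth algebra has reduced fibre over a point `span {t}`. -/
theorem isRadical_span_of_smooth {A B : Type u} [CommRing A] [CommRing B] [Algebra A B] [Algebra.Smooth A B]
    (t : A) (hmax : (Ideal.span {t}).IsMaximal) : (Ideal.span {algebraMap A B t}).IsRadical := by
  haveI := hmax
  letI : Field (A ⧸ Ideal.span {t}) := Ideal.Quotient.field _
  have hred : _root_.IsReduced ((A ⧸ Ideal.span {t}) ⊗[A] B) := by
    have hs : AlgebraicGeometry.Smooth (Spec.map (CommRingCat.ofHom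
        (algebraMap (A ⧸ Ideal.span {t}) ((A ⧸ Ideal.span {t}) ⊗[A] B)))) := by
      rw [HasRingHomProperty.Spec_iff (P := @AlgebraicGeometry.Smooth)]
      exact RingHom.smooth_algebraMap.mpr inferInstance
    have := AlgSpLib.isReduced_of_smooth (Spec.map (CommRingCat.ofHom
        (algebraMap (A ⧸ Ideal.span {t}) ((A ⧸ Ideal.span {t}) ⊗[A] B))))
    exact (affine_isReduced_iff (CommRingCat.of ((A ⧸ Ideal.span {t}) ⊗[A] B))).mp this
  have e := (Algebra.TensorProduct.quotIdealMapEquivTensorQuot B (Ideal.span {t})).toRingEquiv.trans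
    (Algebra.TensorProduct.comm A B (A ⧸ Ideal.span {t})).toRingEquiv
  have h2 : _root_.IsReduced (B ⧸ (Ideal.span {t}).map (algebraMap A B)) := isReduced_of_injective e e.injective
  rw [Ideal.map_span, Set.image_singleton] at h2
  exact Ideal.isRadical_iff_quotient_reduced _ |>.2 h2

variable {X : Scheme.{u}}

/-- A basic neighbourhood with domain of sections inside a given affine open. -/
theorem exists_basic_domain [IsLocallyNoetherian X] (hreg : ∀ x : X, IsRegularLocalRing (X.presheaf.stalk x))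
    {W₀ : X.Opens} (hW₀ : IsAffineOpen W₀) (x : X) (hx : x ∈ W₀) :
    ∃ f : Γ(X, W₀), x ∈ X.basicOpen f ∧ IsDomain Γ(X, X.basicOpen f) := by
  classical
  haveI : IsNoetherianRing Γ(X, W₀) := IsLocallyNoetherian.component_noetherian ⟨W₀, hW₀⟩
  letI := TopCat.Presheaf.algebra_section_stalk X.presheaf (⟨x, hx⟩ : (W₀ : X.Opens))
  let p := (hW₀.primeIdealOf ⟨x, hx⟩).asIdeal
  haveI : IsLocalization.AtPrime (X.presheaf.stalk x) p := hW₀.isLocalization_stalk ⟨x, hx⟩
  haveI := hreg x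
  haveI := CommAlgDim.isDomain_of_isRegularLocalRing (X.presheaf.stalk x)
  let q := RingHom.ker (algebraMap Γ(X, W₀) (X.presheaf.stalk x))
  obtain ⟨S, hS⟩ := (IsNoetherian.noetherian q : Submodule.FG q)
  have hk : ∀ s ∈ S, ∃ t : Γ(X, W₀), t ∉ p ∧ t * s = 0 := fun s hs => by
    obtain ⟨⟨t, ht⟩, h⟩ := (IsLocalization.map_eq_zero_iff p.primeCompl (X.presheaf.stalk x) s).1
      (hS ▸ Submodule.subset_span hs : s ∈ q)
    exact ⟨t, ht, h⟩
  choose t ht htz using hk
  let f := ∏ s : S, t s.1 s.2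
  have hf : f ∉ p := fun hmem => by
    obtain ⟨s, -, hs⟩ := (Ideal.IsPrime.prod_mem_iff).1 hmem
    exact ht s.1 s.2 hs
  have hfq : ∀ a ∈ q, f * a = 0 := by
    intro a ha
    rw [← hS] at ha
    induction ha using Submodule.span_induction with
    | mem a ha =>
      have hd : t a ha ∣ f := Finset.dvd_prod_of_mem (fun s : S => t s.1 s.2) (Finset.mem_univ ⟨a, ha⟩)
      obtain ⟨c, hc⟩ := hd
      rw [hc, mul_right_comm, htz a ha, zero_mul]
    | zero => rw [mul_zero]
    | add a b _ _ ha hb => rw [mul_add, ha, hb, add_zero]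
    | smul r a _ ha => rw [smul_eq_mul, mul_left_comm, ha, mul_zero]
  refine ⟨f, ?_, ?_⟩
  · rw [X.mem_basicOpen f x hx]
    exact IsLocalization.map_units (X.presheaf.stalk x) (⟨f, hf⟩ : p.primeCompl)
  haveI : IsLocalization.Away f Γ(X, X.basicOpen f) := hW₀.isLocalization_basicOpen f
  have hfu : IsUnit (algebraMap Γ(X, W₀) (X.presheaf.stalk x) f) :=
    IsLocalization.map_units (X.presheaf.stalk x) (⟨f, hf⟩ : p.primeCompl)
  let ρ : Γ(X, X.basicOpen f) →+* X.presheaf.stalk x := IsLocalization.Away.lift f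
    (g := algebraMap Γ(X, W₀) (X.presheaf.stalk x)) hfu
  refine Function.Injective.isDomain ρ ((injective_iff_map_eq_zero ρ).2 fun z hz => ?_)
  obtain ⟨n, a, ha⟩ := IsLocalization.Away.surj f z
  have h1 : algebraMap Γ(X, W₀) (X.presheaf.stalk x) a = 0 := by
    rw [← IsLocalization.Away.lift_eq (S := Γ(X, X.basicOpen f)) f hfu a, ← ha, map_mul, hz, zero_mul]
  have h2 : algebraMap Γ(X, W₀) Γ(X, X.basicOpen f) a = 0 :=
    (IsLocalization.map_eq_zero_iff (Submonoid.powers f) _ a).2 ⟨⟨f, 1, pow_one f⟩, hfq a h1⟩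
  rw [h2] at ha
  exact ((IsLocalization.Away.algebraMap_isUnit f).pow n).mul_left_eq_zero.1 ha

theorem app_props_open {V P : Scheme.{u}} (h : V ⟶ P) [IsFinite h] [Etale h] (j : P ⟶ X) [IsOpenImmersion j]
    {D : X.Opens} (hD : IsAffineOpen D) (hle : D ≤ j.opensRange) :
    ((h ≫ j).app D).hom.Finite ∧ ((h ≫ j).app D).hom.Etale := by
  have hA : IsAffineOpen (j ⁻¹ᵁ D) := hD.preimage_of_isOpenImmersion j hle
  haveI : IsIso (j.app D) := Scheme.Hom.isIso_app _ _ hle
  have h1 : (h.app (j ⁻¹ᵁ D)).hom.Finite := h.finite_app _ hA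
  have h2 : (h.app (j ⁻¹ᵁ D)).hom.Etale := by
    have := HasRingHomProperty.appLE @Etale h inferInstance ⟨_, hA⟩ ⟨_, hA.preimage h⟩ le_rfl
    rwa [← Scheme.Hom.app_eq_appLE] at this
  show ((h.app (j ⁻¹ᵁ D)).hom.comp (j.app D).hom).Finite ∧ ((h.app (j ⁻¹ᵁ D)).hom.comp (j.app D).hom).Etale
  exact ⟨RingHom.finite_respectsIso.2 _ (asIso (j.app D)).commRingCatIsoToRingEquiv h1,
    RingHom.Etale.respectsIso.2 _ (asIso (j.app D)).commRingCatIsoToRingEquiv h2⟩

theorem endMap_comp {Z : Scheme.{u}} (O : Z.Opens) (a b : Z ⟶ Z) (ha : O ≤ a ⁻¹ᵁ O) (hb : O ≤ b ⁻¹ᵁ O)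
    (hab : O ≤ (a ≫ b) ⁻¹ᵁ O) : (a ≫ b).appLE O O hab = b.appLE O O hb ≫ a.appLE O O ha :=
  (Scheme.Hom.appLE_comp_appLE _ _ _ _ _ _ _).symm

end AbhyCurve
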