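import Groth.Agent.AbhyCurveLib.Tame
import Groth.Agent.AbhyLib.Normalization
import Groth.Agent.AbhyLib.Codim

/-! Ring level: a Galois cover becomes etale after a root of the uniformiser. -/

set_option autoImplicit false
set_option linter.style.haveILetI false
set_option linter.unusedSectionVars false
set_option maxHeartbeats 2000000
set_option synthInstance.maxHeartbeats 200000
universe u

noncomputable section

namespace AbhyCurve

open IsLocalRing
open scoped TensorProduct

section Off
variable {A : Type u} [CommRing A] {E : Type u} [CommRing E] [Algebra A E]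

/-- At a prime avoiding the divisor a cover is unramified. -/
theorem unramified_off {A' L' : Type u} [CommRing A'] [IsDomain A'] [Algebra A A'] [Field L'] [Algebra A' L']
    [Algebra A L'] [IsScalarTower A A' L'] {K' : Type u} [Field K'] [Algebra A' K'] [IsFractionRing A' K']
    [Algebra K' L'] [IsScalarTower A' K' L'] (F : A) {AF : Type u} [CommRing AF] [Algebra A AF]
    [IsLocalization.Away F AF] [Algebra AF E] [IsScalarTower A AF E] [Module.Finite AF E] [Algebra.Etale AF E]
    (ψ : E →ₐ[A] L') (hgen : IntermediateField.adjoin K' (Set.range ψ) = ⊤)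
    (q : Ideal A') [q.IsPrime] [IsDiscreteValuationRing (Localization.AtPrime q)] (hF : algebraMap A A' F ∉ q)
    (g : Localization.AtPrime q →+* L') (hg : g.comp (algebraMap A' _) = algebraMap A' L') :
    EtRam.IsUnramifiedExt (Localization.AtPrime q) g := by
  let D := Localization.AtPrime q
  have hu : ∀ y : Submonoid.powers F, IsUnit (algebraMap A D y) := by
    rintro ⟨_, k, rfl⟩
    rw [map_pow, IsScalarTower.algebraMap_apply A A' D]
    exact (IsLocalization.map_units D (⟨_, hF⟩ : q.primeCompl)).pow k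
  letI : Algebra AF D := (IsLocalization.lift (M := Submonoid.powers F) hu).toAlgebra
  haveI : IsScalarTower A AF D := IsScalarTower.of_algebraMap_eq fun a => (IsLocalization.lift_eq hu a).symm
  have hu' : ∀ y : q.primeCompl, IsUnit (algebraMap A' K' y) := fun y =>
    Ne.isUnit ((map_ne_zero_iff _ (IsFractionRing.injective A' K')).2 fun h => y.2 (h ▸ q.zero_mem))
  letI : Algebra D K' := (IsLocalization.lift (M := q.primeCompl) hu').toAlgebra
  haveI : IsScalarTower A' D K' := IsScalarTower.of_algebraMap_eq fun a => (IsLocalization.lift_eq hu' a).symm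
  haveI : IsFractionRing D K' := IsFractionRing.isFractionRing_of_isLocalization q.primeCompl D K' q.primeCompl_le_nonZeroDivisors
  have hgK : g = (algebraMap K' L').comp (algebraMap D K') :=
    IsLocalization.ringHom_ext q.primeCompl (hg.trans (RingHom.ext fun a => by
      show _ = algebraMap K' L' (algebraMap D K' (algebraMap A' D a))
      rw [← IsScalarTower.algebraMap_apply A' D K', ← IsScalarTower.algebraMap_apply A' K' L']))
  letI : Algebra D L' := g.toAlgebra
  haveI : IsScalarTower D K' L' := IsScalarTower.of_algebraMap_eq fun x => DFunLike.congr_fun hgK x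
  letI : Algebra AF L' := (g.comp (algebraMap AF D)).toAlgebra
  haveI : IsScalarTower AF D L' := IsScalarTower.of_algebraMap_eq fun _ => rfl
  haveI : IsScalarTower A AF L' := IsScalarTower.of_algebraMap_eq fun a => by
    show _ = g (algebraMap AF D (algebraMap A AF a))
    rw [← IsScalarTower.algebraMap_apply A AF D, IsScalarTower.algebraMap_apply A A' L']
    exact (DFunLike.congr_fun hg _).symm
  let ψF : E →ₐ[AF] L' := { ψ.toRingHom with
    commutes' := fun x => DFunLike.congr_fun (IsLocalization.ringHom_ext (Submonoid.powers F)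
      (j := ψ.toRingHom.comp (algebraMap AF E)) (k := algebraMap AF L') (RingHom.ext fun a => by
        show ψ (algebraMap AF E (algebraMap A AF a)) = algebraMap AF L' (algebraMap A AF a)
        rw [← IsScalarTower.algebraMap_apply, ← IsScalarTower.algebraMap_apply, AlgHom.commutes])) x }
  let Ψ : D ⊗[AF] E →ₐ[D] L' := Algebra.TensorProduct.lift (Algebra.ofId D L') ψF fun _ _ => Commute.all _ _
  have hgen' : IntermediateField.adjoin K' (Set.range Ψ) = ⊤ := top_unique (hgen ▸ IntermediateField.adjoin.mono K' _ _ (by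
    rintro _ ⟨x, rfl⟩
    exact ⟨(1 : D) ⊗ₜ[AF] x, by simp [Ψ, ψF]⟩))
  have h := EtRamTameLib.unramified_of_etale (A := D) (K := K') Ψ hgen'
  rw [hgK]
  exact h

end Off

theorem irreducible_of_radical {R : Type u} [CommRing R] [IsDomain R] (π : R) (hπ : π ≠ 0)
    (hrad : (Ideal.span {π}).IsRadical) (q : Ideal R) [q.IsPrime] [IsDiscreteValuationRing (Localization.AtPrime q)]
    (hq : π ∈ q) : Irreducible (algebraMap R (Localization.AtPrime q) π) := by
  let D := Localization.AtPrime q
  obtain ⟨x, hx⟩ := IsDiscreteValuationRing.exists_irreducible D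
  have hinj : Function.Injective (algebraMap R D) := IsLocalization.injective D q.primeCompl_le_nonZeroDivisors
  obtain ⟨a, v, ha⟩ := IsDiscreteValuationRing.eq_unit_mul_pow_irreducible ((map_ne_zero_iff _ hinj).2 hπ) hx
  have hnu : ¬ IsUnit (algebraMap R D π) := fun h => (IsLocalization.AtPrime.isUnit_to_map_iff D q π).1 h hq
  have hsq : ∀ y : D, algebraMap R D π ∣ y ^ 2 → algebraMap R D π ∣ y := by
    intro y hy
    obtain ⟨⟨r, s⟩, rfl⟩ := IsLocalization.mk'_surjective q.primeCompl y |>.imp fun _ h => h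
    obtain ⟨c, hc⟩ := hy
    obtain ⟨⟨c0, s'⟩, rfl⟩ := IsLocalization.mk'_surjective q.primeCompl c
    have h1 : algebraMap R D (r ^ 2 * (s' : R)) = algebraMap R D (π * (s : R) ^ 2 * c0) := by
      simp only [map_mul, map_pow]
      rw [← IsLocalization.mk'_spec D r s, mul_pow, ← IsLocalization.mk'_spec D c0 s', hc]
      ring
    have h2 : r * (s' : R) ∈ Ideal.span {π} :=
      hrad ⟨2, Ideal.mem_span_singleton.2 ⟨(s : R) ^ 2 * c0 * (s' : R), by linear_combination (s' : R) * hinj h1⟩⟩
    obtain ⟨d, hd⟩ := Ideal.mem_span_singleton.1 h2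
    refine ⟨IsLocalization.mk' D d (s * s'), ?_⟩
    show IsLocalization.mk' D r s = algebraMap R D π * IsLocalization.mk' D d (s * s')
    rw [IsLocalization.mul_mk'_eq_mk'_of_mul, ← hd, IsLocalization.mk'_cancel]
  match a, ha with
  | 0, ha => exact absurd (by rw [ha, pow_zero, mul_one]; exact v.isUnit) hnu
  | 1, ha => rw [ha, pow_one]; exact (irreducible_units_mul v).2 hx
  | a + 2, ha =>
    exfalso
    obtain ⟨c, hc⟩ := hsq (x ^ (a + 1)) ⟨(v⁻¹ : Dˣ) * x ^ a, by
      rw [ha]; linear_combination (- x ^ (2 * a + 2)) * v.mul_inv⟩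
    rw [ha] at hc
    refine hx.not_isUnit (IsUnit.of_mul_eq_one ((v : D) * c) (mul_left_cancel₀ (pow_ne_zero (a + 1) hx.ne_zero) ?_))
    rw [mul_one]
    conv_rhs => rw [hc]
    ring

theorem dvr_atPrime {R : Type u} [CommRing R] [IsDomain R] (q : Ideal R) [q.IsPrime]
    [IsRegularLocalRing (Localization.AtPrime q)] (hq : q.height = 1) : IsDiscreteValuationRing (Localization.AtPrime q) := by
  let D := Localization.AtPrime q
  haveI : IsDomain D := IsLocalization.isDomain_localization q.primeCompl_le_nonZeroDivisors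
  haveI : IsIntegrallyClosed D := NormalLib.isIntegrallyClosed_of_isRegularLocalRing D
  have hdim : (maximalIdeal D).height = 1 := by
    rw [← hq, ← IsLocalization.height_under q.primeCompl, Localization.AtPrime.comap_maximalIdeal]
  have hm0 : maximalIdeal D ≠ ⊥ := fun h => by rw [h, Ideal.height_bot] at hdim; exact zero_ne_one hdim
  have hnf : ¬ IsField D := fun h => hm0 ((IsLocalRing.isField_iff_maximalIdeal_eq).1 h)
  have h4 : IsIntegrallyClosed D ∧ ∃! P : Ideal D, P ≠ ⊥ ∧ P.IsPrime :=
    ⟨inferInstance, maximalIdeal D, ⟨hm0, inferInstance⟩, fun P ⟨hP0, hP⟩ => by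
      rcases (IsLocalRing.le_maximalIdeal hP.ne_top).eq_or_lt with h | h
      · exact h
      · have hlt := Ideal.height_strict_mono_of_isPrime h
        rw [hdim, ENat.lt_one_iff_eq_zero, Ideal.height_eq_zero_iff, IsDomain.minimalPrimes_eq_singleton_bot,
          Set.mem_singleton_iff] at hlt
        exact absurd hlt hP0⟩
  exact ((IsDiscreteValuationRing.TFAE D hnf).out 3 0).1 h4

theorem galois_factor {R0 : Type u} [CommRing R0] [IsDomain R0] {C0 : Type u} [CommRing C0] [Algebra R0 C0]
    [Algebra.FormallyUnramified R0 C0] {G : Type u} [Group G] [Finite G] (act : G →* (C0 ≃ₐ[R0] C0))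
    (htrans : ∀ (Ω : Type u) [Field Ω] [IsAlgClosed Ω] [Algebra R0 Ω], Function.Injective (algebraMap R0 Ω) →
      ∀ χ χ' : C0 →ₐ[R0] Ω, ∃ σ, χ' = χ.comp (act σ).toAlgHom)
    (K0 : Type u) [Field K0] [Algebra R0 K0] [IsFractionRing R0 K0] {L : Type u} [Field L] [Algebra K0 L]
    [Algebra R0 L] [IsScalarTower R0 K0 L] [FiniteDimensional K0 L] (ψ : C0 →ₐ[R0] L) :
    IsGalois K0 (IntermediateField.adjoin K0 (Set.range ψ)) ∧
      Module.finrank K0 (IntermediateField.adjoin K0 (Set.range ψ)) ∣ Nat.card G := by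
  classical
  let L0 := IntermediateField.adjoin K0 (Set.range ψ)
  have hmem : ∀ c, ψ c ∈ L0 := fun c => IntermediateField.subset_adjoin _ _ ⟨c, rfl⟩
  let ψ0 : C0 →ₐ[R0] L0 := ψ.codRestrict (L0.toSubalgebra.restrictScalars R0) hmem
  let Ψ : K0 ⊗[R0] C0 →ₐ[K0] L0 := Algebra.TensorProduct.lift (Algebra.ofId K0 L0) ψ0 fun _ _ => Commute.all _ _
  have hsurj : Function.Surjective Ψ := by
    intro z
    have hz : (z : L) ∈ Algebra.adjoin K0 (Set.range ψ) := by
      rw [← IntermediateField.adjoin_toSubalgebra_of_isAlgebraic fun x _ => Algebra.IsAlgebraic.isAlgebraic x]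
      exact z.2
    have hle : Algebra.adjoin K0 (Set.range ψ) ≤ Ψ.range.map L0.val := Algebra.adjoin_le (by
      rintro _ ⟨c, rfl⟩
      exact ⟨ψ0 c, ⟨1 ⊗ₜ c, by simp [Ψ]⟩, rfl⟩)
    obtain ⟨_, ⟨y, rfl⟩, hy⟩ := hle hz
    exact ⟨y, Subtype.ext hy⟩
  haveI : Algebra.FormallyUnramified K0 L0 := Algebra.FormallyUnramified.of_surjective Ψ hsurj
  haveI : Algebra.IsSeparable K0 L0 := Algebra.FormallyUnramified.isSeparable K0 L0
  have hext : ∀ {E : Type u} [Field E] [Algebra K0 E] (a b : L0 →ₐ[K0] E), (∀ c, a (ψ0 c) = b (ψ0 c)) → a = b := by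
    intro E _ _ a b h
    refine AlgHom.ext fun z => ?_
    obtain ⟨y, rfl⟩ := hsurj z
    induction y using TensorProduct.induction_on with
    | zero => simp
    | add x y hx hy => simp [hx, hy]
    | tmul k c =>
      rw [show k ⊗ₜ[R0] c = k • ((1 : K0) ⊗ₜ[R0] c) by rw [TensorProduct.smul_tmul', smul_eq_mul, mul_one],
        map_smul, map_smul, map_smul]
      congr 1
      simpa [Ψ] using h c
  let Ω := AlgebraicClosure L0
  let ι0 : L0 →ₐ[K0] Ω := IsScalarTower.toAlgHom K0 L0 Ω
  have hinjΩ : Function.Injective (algebraMap R0 Ω) := fun x y h => IsFractionRing.injective R0 K0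
    ((algebraMap K0 Ω).injective (by rwa [← IsScalarTower.algebraMap_apply, ← IsScalarTower.algebraMap_apply]))
  have key : ∀ φ : L0 →ₐ[K0] Ω, ∃ (a : L0 ≃ₐ[K0] L0) (σ : G), (∀ c, a (ψ0 c) = ψ0 (act σ c)) ∧ φ = ι0.comp a.toAlgHom := by
    intro φ
    obtain ⟨σ, hσ⟩ := htrans Ω hinjΩ ((ι0.restrictScalars R0).comp ψ0) ((φ.restrictScalars R0).comp ψ0)
    have hσ' : ∀ c, φ (ψ0 c) = ι0 (ψ0 (act σ c)) := fun c => DFunLike.congr_fun hσ c
    have hle : φ.fieldRange ≤ ι0.fieldRange := by
      rintro _ ⟨z, rfl⟩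
      obtain ⟨y, rfl⟩ := hsurj z
      induction y using TensorProduct.induction_on with
      | zero => simp
      | add x y hx hy => rw [map_add, map_add]; exact add_mem hx hy
      | tmul k c =>
        rw [show k ⊗ₜ[R0] c = k • ((1 : K0) ⊗ₜ[R0] c) by rw [TensorProduct.smul_tmul', smul_eq_mul, mul_one],
          map_smul]
        show φ (k • Ψ ((1 : K0) ⊗ₜ[R0] c)) ∈ ι0.fieldRange
        rw [map_smul]
        exact ι0.fieldRange.smul_mem ⟨ψ0 (act σ c), by simpa [Ψ] using (hσ' c).symm⟩
    let a0 : L0 →ₐ[K0] L0 :=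
      (AlgEquiv.ofInjectiveField ι0).symm.toAlgHom.comp (φ.codRestrict ι0.range fun z => hle ⟨z, rfl⟩)
    have ha0 : ∀ z, ι0 (a0 z) = φ z := fun z =>
      congrArg Subtype.val ((AlgEquiv.ofInjectiveField ι0).apply_symm_apply (φ.codRestrict ι0.range (fun z => hle ⟨z, rfl⟩) z))
    let a : L0 ≃ₐ[K0] L0 := AlgEquiv.ofBijective a0 (Algebra.IsAlgebraic.algHom_bijective a0)
    refine ⟨a, σ, fun c => ι0.toRingHom.injective ?_, AlgHom.ext fun z => (ha0 z).symm⟩
    exact (ha0 _).trans (hσ' c)
  choose a σ haσ haφ using key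
  haveI : Finite Gal(L0/K0) := inferInstance
  have hinj : Function.Injective a := fun φ φ' h => by rw [haφ φ, haφ φ', h]
  have hgal : IsGalois K0 L0 := IsGalois.of_card_aut_eq_finrank K0 L0 (by
    refine le_antisymm ?_ ?_
    · rw [Nat.card_eq_fintype_card]; exact AlgEquiv.card_le
    · rw [← AlgHom.card K0 L0 Ω, ← Nat.card_eq_fintype_card]
      exact Nat.card_le_card_of_injective a hinj)
  refine ⟨hgal, ?_⟩
  let H : Subgroup G :=
    { carrier := {s | ∃ b : L0 ≃ₐ[K0] L0, ∀ c, b (ψ0 c) = ψ0 (act s c)}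
      one_mem' := ⟨1, fun c => by rw [map_one]; rfl⟩
      mul_mem' := by
        rintro s s' ⟨b, hb⟩ ⟨b', hb'⟩
        exact ⟨b * b', fun c => by rw [map_mul]; show b (b' _) = _; rw [hb', hb]; rfl⟩
      inv_mem' := by
        rintro s ⟨b, hb⟩
        refine ⟨b⁻¹, fun c => b.injective ?_⟩
        rw [hb, ← AlgEquiv.mul_apply, ← AlgEquiv.mul_apply, mul_inv_cancel, ← map_mul, mul_inv_cancel, map_one]
        rfl }
  choose β hβ using fun s : H => s.2
  let βh : H →* (L0 ≃ₐ[K0] L0) :=
    MonoidHom.mk' β fun s s' => AlgEquiv.coe_algHom_injective (hext _ _ fun c => by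
      show β (s * s') (ψ0 c) = β s (β s' (ψ0 c))
      rw [hβ, hβ, hβ]
      show ψ0 (act ((s : G) * s') c) = _
      rw [map_mul]; rfl)
  have hβsurj : Function.Surjective βh := fun b => by
    refine ⟨⟨σ (ι0.comp b.toAlgHom), a (ι0.comp b.toAlgHom), haσ _⟩, AlgEquiv.coe_algHom_injective (hext _ _ fun c => ?_)⟩
    show β _ (ψ0 c) = b (ψ0 c)
    rw [hβ]
    exact (haσ _ c).symm.trans (ι0.toRingHom.injective (DFunLike.congr_fun (haφ (ι0.comp b.toAlgHom)) (ψ0 c)).symm)
  rw [← IsGalois.card_aut_eq_finrank K0 L0]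
  exact (Subgroup.card_dvd_of_surjective βh hβsurj).trans H.card_subgroup_dvd_card

/-- Hypotheses on a chart. -/
theorem unr_codimOne (R0 R : Type u) [CommRing R0] [IsDomain R0] [IsNoetherianRing R0]
    (hreg0 : ∀ (p : Ideal R0) [p.IsPrime], IsRegularLocalRing (Localization.AtPrime p))
    [CommRing R] [IsDomain R] [IsNoetherianRing R] [Algebra R0 R] [Module.Flat R0 R]
    (hreg : ∀ (p : Ideal R) [p.IsPrime], IsRegularLocalRing (Localization.AtPrime p))
    (R1 : Type u) [CommRing R1] [Algebra R0 R1] [Module.Finite R0 R1] [Algebra R1 R] [IsScalarTower R0 R1 R]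
    (h : R1) [IsLocalization.Away h R]
    (ϖ : R0) (hϖ : ϖ ≠ 0) (hrad0 : (Ideal.span {ϖ}).IsRadical)
    (t : R) (hrad : (Ideal.span {t}).IsRadical) (n : ℕ) (ht : t ^ n = algebraMap R0 R ϖ) (hn : IsUnit (n : R0))
    (S : Type u) [CommRing S] [Algebra R S] [IsLocalization.Away (algebraMap R0 R ϖ) S]
    (C : Type u) [CommRing C] [Algebra S C] [Module.Finite S C] [Algebra.Etale S C] [Algebra R C] [IsScalarTower R S C]
    [Algebra R0 C] [IsScalarTower R0 R C]
    (C0 : Type u) [CommRing C0] [Algebra R0 C0] [Algebra.FormallyUnramified R0 C0] (ι : C0 →ₐ[R0] C)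
    (hgen : ∀ (Ω : Type u) [Field Ω] [IsAlgClosed Ω] (χ χ' : C →+* Ω),
      χ.comp (algebraMap R C) = χ'.comp (algebraMap R C) → (∀ c, χ (ι c) = χ' (ι c)) → χ = χ')
    {G : Type u} [Group G] [Finite G] (act : G →* (C0 ≃ₐ[R0] C0)) (hG : Nat.card G = n)
    (htrans : ∀ (Ω : Type u) [Field Ω] [IsAlgClosed Ω] [Algebra R0 Ω], Function.Injective (algebraMap R0 Ω) →
      ∀ χ χ' : C0 →ₐ[R0] Ω, ∃ σ, χ' = χ.comp (act σ).toAlgHom)
    (K L : Type u) [Field K] [Algebra R K] [IsFractionRing R K] [Algebra S K] [IsScalarTower R S K]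
    [Field L] [Algebra K L] [Algebra R L] [Algebra S L] [IsScalarTower R K L]
    [IsScalarTower S K L] [IsScalarTower R S L] [FiniteDimensional K L] [Algebra.IsSeparable K L]
    (ψ : C →ₐ[S] L) (hψ : IntermediateField.adjoin K (Set.range ψ) = ⊤) : AbhyLib.UnrCodimOne R L := by
  classical
  intro q _ hq g hg
  haveI : IsRegularLocalRing (Localization.AtPrime q) := hreg q
  haveI : IsDiscreteValuationRing (Localization.AtPrime q) := dvr_atPrime q hq
  by_cases hϖq : algebraMap R0 R ϖ ∈ q
  swap
  · exact unramified_off (A := R) (A' := R) (K' := K) (algebraMap R0 R ϖ) (AF := S) (ψ.restrictScalars R) hψ q hϖq g hg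
  have hn0 : 1 ≤ n := Nat.one_le_iff_ne_zero.2 fun h0 => by simp [h0] at hn
  have htq : t ∈ q := ‹q.IsPrime›.mem_of_pow_mem n (ht ▸ hϖq)
  let p := q.under R0
  have hϖp : ϖ ∈ p := hϖq
  have hpht : p.height = 1 := by
    refine le_antisymm (by
      have h1 := Ideal.height_eq_height_add_of_liesOver_of_hasGoingDown p (P := q)
      rw [hq] at h1
      exact h1 ▸ le_self_add) (Order.one_le_iff_pos.2 (bot_lt_iff_ne_bot.2 fun h0 => ?_))
    rw [bot_eq_zero, Ideal.height_eq_zero_iff, IsDomain.minimalPrimes_eq_singleton_bot, Set.mem_singleton_iff] at h0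
    exact hϖ (by rw [h0] at hϖp; exact hϖp)
  haveI : IsRegularLocalRing (Localization.AtPrime p) := hreg0 p
  haveI : IsDiscreteValuationRing (Localization.AtPrime p) := dvr_atPrime p hpht
  let A := Localization.AtPrime p
  let D := Localization.AtPrime q
  have hinjR : Function.Injective (algebraMap R0 R) := (injective_iff_map_eq_zero _).2 fun r hr => by
    by_contra hr0
    exact one_ne_zero (α := R) ((smul_eq_zero.1 (show r • (1 : R) = 0 by rw [Algebra.smul_def, hr, zero_mul])).resolve_left hr0)
  letI : Algebra R0 K := ((algebraMap R K).comp (algebraMap R0 R)).toAlgebra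
  haveI : IsScalarTower R0 R K := IsScalarTower.of_algebraMap_eq fun _ => rfl
  let K0 := FractionRing R0
  have hinjK : Function.Injective (algebraMap R0 K) := (IsFractionRing.injective R K).comp hinjR
  letI : Algebra K0 K := (IsFractionRing.lift hinjK).toAlgebra
  haveI : IsScalarTower R0 K0 K := IsScalarTower.of_algebraMap_eq fun x => (IsFractionRing.lift_algebraMap hinjK x).symm
  haveI : FiniteDimensional K0 K := by
    obtain ⟨s, hs⟩ := Module.Finite.fg_top (R := R0) (M := R1)
    let φ : R1 →+* K := (algebraMap R K).comp (algebraMap R1 R)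
    letI : Algebra R1 K := φ.toAlgebra
    haveI : IsScalarTower R0 R1 K := IsScalarTower.of_algebraMap_eq fun x => by
      show algebraMap R K (algebraMap R0 R x) = algebraMap R K (algebraMap R1 R _)
      rw [← IsScalarTower.algebraMap_apply R0 R1 R]
    let E := IntermediateField.adjoin K0 ((algebraMap R1 K) '' (s : Set R1))
    haveI : Finite ((algebraMap R1 K) '' (s : Set R1)) := (s.finite_toSet.image _).to_subtype
    haveI : FiniteDimensional K0 E := IntermediateField.finiteDimensional_adjoin fun x hx => by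
      obtain ⟨b, -, rfl⟩ := hx
      exact ((Algebra.IsIntegral.isIntegral (R := R0) b).map (IsScalarTower.toAlgHom R0 R1 K)).tower_top
    have hR1 : ∀ b : R1, algebraMap R1 K b ∈ E := fun b => by
      have hb : b ∈ Submodule.span R0 (s : Set R1) := by rw [hs]; trivial
      induction hb using Submodule.span_induction with
      | mem x hx => exact IntermediateField.subset_adjoin _ _ ⟨x, hx, rfl⟩
      | zero => rw [map_zero]; exact zero_mem _
      | add x y _ _ hx hy => rw [map_add]; exact add_mem hx hy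
      | smul r x _ hx =>
        rw [Algebra.smul_def, map_mul, ← IsScalarTower.algebraMap_apply R0 R1 K, IsScalarTower.algebraMap_apply R0 K0 K]
        exact mul_mem (IntermediateField.algebraMap_mem _ _) hx
    have hR : ∀ x : R, algebraMap R K x ∈ E := fun x => by
      obtain ⟨k, b, hb⟩ := IsLocalization.Away.surj h x
      by_cases hh : φ h = 0
      · exfalso
        exact (IsLocalization.Away.algebraMap_isUnit (S := R) h).map (algebraMap R K) |>.ne_zero hh
      have h1 : algebraMap R K x * algebraMap R1 K h ^ k = algebraMap R1 K b := by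
        show _ * φ h ^ k = φ b
        rw [← map_pow]
        show algebraMap R K x * algebraMap R K (algebraMap R1 R (h ^ k)) = algebraMap R K (algebraMap R1 R b)
        rw [← map_mul, map_pow, hb]
      rw [eq_div_of_mul_eq (pow_ne_zero k hh) h1]
      exact div_mem (hR1 b) (pow_mem (hR1 h) k)
    have htop : E = ⊤ := top_unique fun x _ => by
      obtain ⟨a, b, -, rfl⟩ := IsFractionRing.div_surjective R x
      exact div_mem (hR a) (hR b)
    exact Module.Finite.equiv ((IntermediateField.equivOfEq htop).trans IntermediateField.topEquiv).toLinearEquiv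
  -- the field over `K0`
  letI : Algebra K0 L := ((algebraMap K L).comp (algebraMap K0 K)).toAlgebra
  haveI : IsScalarTower K0 K L := IsScalarTower.of_algebraMap_eq fun _ => rfl
  haveI : FiniteDimensional K0 L := Module.Finite.trans K L
  letI : Algebra R0 L := ((algebraMap K0 L).comp (algebraMap R0 K0)).toAlgebra
  haveI : IsScalarTower R0 K0 L := IsScalarTower.of_algebraMap_eq fun _ => rfl
  have hR0L : ∀ x, algebraMap R0 L x = algebraMap R L (algebraMap R0 R x) := fun x => by
    show algebraMap K L (algebraMap K0 K (algebraMap R0 K0 x)) = _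
    rw [← IsScalarTower.algebraMap_apply R0 K0 K, IsScalarTower.algebraMap_apply R K L]
    rfl
  let ψ0 : C0 →ₐ[R0] L := { ψ.toRingHom.comp ι.toRingHom with
    commutes' := fun x => by
      show ψ (ι (algebraMap R0 C0 x)) = _
      rw [ι.commutes, IsScalarTower.algebraMap_apply R0 R C, IsScalarTower.algebraMap_apply R S C, ψ.commutes,
        ← IsScalarTower.algebraMap_apply R S L, hR0L] }
  obtain ⟨hgal, hdvd⟩ := galois_factor act htrans K0 ψ0
  rw [hG] at hdvd
  let L0 := IntermediateField.adjoin K0 (Set.range ψ0)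
  haveI : IsGalois K0 L0 := hgal
  -- generation
  let F := IntermediateField.adjoin K ((L0 : Set L))
  have hF : F = ⊤ := by
    by_contra hF
    obtain ⟨x, hx⟩ : ∃ x, x ∉ F := by
      by_contra hall
      exact hF (top_unique fun x _ => not_not.1 fun h => hall ⟨x, h⟩)
    let Ω := AlgebraicClosure L
    haveI : Algebra.IsSeparable F L := Algebra.isSeparable_tower_top_of_isSeparable K F L
    have hcard : 1 < Module.finrank F L := by
      by_contra hle
      have h1 : Module.finrank F L = 1 := le_antisymm (not_lt.1 hle) Module.finrank_pos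
      obtain ⟨c, hc⟩ := (finrank_eq_one_iff_of_nonzero' (1 : L) one_ne_zero).1 h1 x
      exact hx (hc ▸ (show c • (1 : L) ∈ F by rw [IntermediateField.smul_def, smul_eq_mul, mul_one]; exact c.2))
    rw [← AlgHom.card F L Ω] at hcard
    obtain ⟨φ, φ', hne⟩ := Fintype.one_lt_card_iff_nontrivial.1 hcard
    refine hne (AlgHom.ext fun z => ?_)
    have hC : φ.toRingHom.comp ψ.toRingHom = φ'.toRingHom.comp ψ.toRingHom := by
      refine hgen Ω _ _ (RingHom.ext fun r => ?_) fun c => ?_
      · show φ (ψ (algebraMap R C r)) = φ' (ψ (algebraMap R C r))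
        rw [IsScalarTower.algebraMap_apply R S C, ψ.commutes, ← IsScalarTower.algebraMap_apply R S L,
          IsScalarTower.algebraMap_apply R K L, IsScalarTower.algebraMap_apply K F L, φ.commutes, φ'.commutes]
      · have hm : ψ0 c ∈ F := IntermediateField.subset_adjoin _ _ (IntermediateField.subset_adjoin _ _ ⟨c, rfl⟩)
        exact (φ.commutes ⟨_, hm⟩).trans (φ'.commutes ⟨_, hm⟩).symm
    have hz : z ∈ Algebra.adjoin K (Set.range ψ) := by
      rw [← IntermediateField.adjoin_toSubalgebra_of_isAlgebraic fun x _ => Algebra.IsAlgebraic.isAlgebraic x, hψ]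
      trivial
    induction hz using Algebra.adjoin_induction with
    | mem y hy => obtain ⟨c, rfl⟩ := hy; exact DFunLike.congr_fun hC c
    | algebraMap k => rw [IsScalarTower.algebraMap_apply K F L, φ.commutes, φ'.commutes]
    | add a b _ _ ha hb => rw [map_add, map_add, ha, hb]
    | mul a b _ _ ha hb => rw [map_mul, map_mul, ha, hb]
  have hgenL : Algebra.adjoin L0 (Set.range (algebraMap K L)) = ⊤ := by
    refine top_unique fun x htriv => ?_
    clear htriv
    have hx : x ∈ Algebra.adjoin K (L0 : Set L) := by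
      rw [← IntermediateField.adjoin_toSubalgebra_of_isAlgebraic fun y _ => Algebra.IsAlgebraic.isAlgebraic y]
      exact hF.ge trivial
    induction hx using Algebra.adjoin_induction with
    | mem y hy => exact Subalgebra.algebraMap_mem _ (⟨y, hy⟩ : L0)
    | algebraMap k => exact Algebra.subset_adjoin ⟨k, rfl⟩
    | add a b _ _ ha hb => exact add_mem ha hb
    | mul a b _ _ ha hb => exact mul_mem ha hb
  -- the local data
  have hu0 : ∀ y : p.primeCompl, IsUnit (algebraMap R0 K0 y) := fun y =>
    Ne.isUnit ((map_ne_zero_iff _ (IsFractionRing.injective R0 K0)).2 fun h => y.2 (h ▸ p.zero_mem))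
  letI : Algebra A K0 := (IsLocalization.lift (M := p.primeCompl) hu0).toAlgebra
  haveI : IsScalarTower R0 A K0 := IsScalarTower.of_algebraMap_eq fun a => (IsLocalization.lift_eq hu0 a).symm
  haveI : IsFractionRing A K0 := IsFractionRing.isFractionRing_of_isLocalization p.primeCompl A K0 p.primeCompl_le_nonZeroDivisors
  have hu1 : ∀ y : q.primeCompl, IsUnit (algebraMap R K y) := fun y =>
    Ne.isUnit ((map_ne_zero_iff _ (IsFractionRing.injective R K)).2 fun h => y.2 (h ▸ q.zero_mem))
  letI : Algebra D K := (IsLocalization.lift (M := q.primeCompl) hu1).toAlgebra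
  haveI : IsScalarTower R D K := IsScalarTower.of_algebraMap_eq fun a => (IsLocalization.lift_eq hu1 a).symm
  haveI : IsFractionRing D K := IsFractionRing.isFractionRing_of_isLocalization q.primeCompl D K q.primeCompl_le_nonZeroDivisors
  letI : Algebra A D := (Localization.localRingHom p q (algebraMap R0 R) rfl).toAlgebra
  haveI : IsLocalHom (algebraMap A D) := Localization.isLocalHom_localRingHom p q _ rfl
  have hADm : ∀ r : R0, algebraMap A D (algebraMap R0 A r) = algebraMap R D (algebraMap R0 R r) := fun r =>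
    Localization.localRingHom_to_map p q _ rfl r
  have hAD : ∀ a : A, algebraMap K0 K (algebraMap A K0 a) = algebraMap D K (algebraMap A D a) := by
    refine fun a => DFunLike.congr_fun (IsLocalization.ringHom_ext p.primeCompl
      (j := (algebraMap K0 K).comp (algebraMap A K0)) (k := (algebraMap D K).comp (algebraMap A D))
      (RingHom.ext fun r => ?_)) a
    show algebraMap K0 K (algebraMap A K0 (algebraMap R0 A r)) = algebraMap D K (algebraMap A D (algebraMap R0 A r))
    rw [hADm, ← IsScalarTower.algebraMap_apply R0 A K0, ← IsScalarTower.algebraMap_apply R D K,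
      ← IsScalarTower.algebraMap_apply R0 K0 K]
    rfl
  have hπ : Irreducible (algebraMap R0 A ϖ) := irreducible_of_radical ϖ hϖ hrad0 p hϖp
  have ht0 : t ≠ 0 := fun h0 => hϖ (hinjR (by rw [← ht, h0, zero_pow (by omega), map_zero]))
  have hτ : Irreducible (algebraMap R D t) := irreducible_of_radical t ht0 hrad q htq
  have hu : algebraMap A D (algebraMap R0 A ϖ) = ((1 : Dˣ) : D) * algebraMap R D t ^ n := by
    rw [hADm, ← ht, map_pow, Units.val_one, one_mul]
  have hres : ((Module.finrank K0 L0 : ℕ) : ResidueField A) ≠ 0 := by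
    obtain ⟨m, hm⟩ := hdvd
    have h1 : IsUnit ((n : ℕ) : ResidueField A) := by
      have := hn.map ((residue A).comp (algebraMap R0 A))
      rwa [map_natCast] at this
    rw [hm, Nat.cast_mul, IsUnit.mul_iff] at h1
    exact h1.1.ne_zero
  have hgK : g = (algebraMap K L).comp (algebraMap D K) :=
    IsLocalization.ringHom_ext q.primeCompl (hg.trans (RingHom.ext fun a => by
      show _ = algebraMap K L (algebraMap D K (algebraMap R D a))
      rw [← IsScalarTower.algebraMap_apply R D K, ← IsScalarTower.algebraMap_apply R K L]))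
  haveI : IsScalarTower K0 L0 L := inferInstance
  rw [hgK]
  exact unramified_of_absorb_idx (A := A) (K := K0) (L := L0) (D := D) (K' := K) (M := L) hAD hgenL
    (EtRamTameLib.tame_of_isGalois (A := A) (K := K0) (L := L0) hres) hπ hτ hu
    fun V hV => by
      intro _
      exact (idx_dvd_of_isGalois (A := A) (K := K0) (L := L0) V hV).trans hdvd

/-- The integral closure on a chart is finite etale. -/
theorem integralClosure_finite_etale (R0 R : Type u) [CommRing R0] [IsDomain R0] [IsNoetherianRing R0]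
    (hreg0 : ∀ (p : Ideal R0) [p.IsPrime], IsRegularLocalRing (Localization.AtPrime p))
    [CommRing R] [IsDomain R] [IsNoetherianRing R] [IsIntegrallyClosed R] [Algebra R0 R] [Module.Flat R0 R]
    (hreg : ∀ (p : Ideal R) [p.IsPrime], IsRegularLocalRing (Localization.AtPrime p))
    (R1 : Type u) [CommRing R1] [Algebra R0 R1] [Module.Finite R0 R1] [Algebra R1 R] [IsScalarTower R0 R1 R]
    (h : R1) [IsLocalization.Away h R]
    (ϖ : R0) (hϖ : ϖ ≠ 0) (hrad0 : (Ideal.span {ϖ}).IsRadical)
    (t : R) (hrad : (Ideal.span {t}).IsRadical) (n : ℕ) (ht : t ^ n = algebraMap R0 R ϖ) (hn : IsUnit (n : R0))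
    (S : Type u) [CommRing S] [Algebra R S] [IsLocalization.Away (algebraMap R0 R ϖ) S]
    (C : Type u) [CommRing C] [Algebra S C] [Module.Finite S C] [Algebra.Etale S C] [Algebra R C] [IsScalarTower R S C]
    [Algebra R0 C] [IsScalarTower R0 R C]
    (C0 : Type u) [CommRing C0] [Algebra R0 C0] [Algebra.FormallyUnramified R0 C0] (ι : C0 →ₐ[R0] C)
    (hgen : ∀ (Ω : Type u) [Field Ω] [IsAlgClosed Ω] (χ χ' : C →+* Ω),
      χ.comp (algebraMap R C) = χ'.comp (algebraMap R C) → (∀ c, χ (ι c) = χ' (ι c)) → χ = χ')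
    {G : Type u} [Group G] [Finite G] (act : G →* (C0 ≃ₐ[R0] C0)) (hG : Nat.card G = n)
    (htrans : ∀ (Ω : Type u) [Field Ω] [IsAlgClosed Ω] [Algebra R0 Ω], Function.Injective (algebraMap R0 Ω) →
      ∀ χ χ' : C0 →ₐ[R0] Ω, ∃ σ, χ' = χ.comp (act σ).toAlgHom) :
    Module.Finite R (integralClosure R C) ∧ Algebra.Etale R (integralClosure R C) := by
  classical
  have hinjR : Function.Injective (algebraMap R0 R) := (injective_iff_map_eq_zero _).2 fun r hr => by
    by_contra hr0
    exact one_ne_zero (α := R) ((smul_eq_zero.1 (show r • (1 : R) = 0 by rw [Algebra.smul_def, hr, zero_mul])).resolve_left hr0)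
  have hG0 : algebraMap R0 R ϖ ≠ 0 := (map_ne_zero_iff _ hinjR).2 hϖ
  have hM : Submonoid.powers (algebraMap R0 R ϖ) ≤ nonZeroDivisors R := powers_le_nonZeroDivisors_of_noZeroDivisors hG0
  let K := FractionRing R
  letI : Algebra S K := (IsLocalization.map (M := Submonoid.powers (algebraMap R0 R ϖ)) (T := nonZeroDivisors R) K
    (RingHom.id R) hM).toAlgebra
  haveI : IsScalarTower R S K := IsScalarTower.of_algebraMap_eq fun x => by
    show _ = IsLocalization.map _ (RingHom.id R) hM (algebraMap R S x)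
    rw [IsLocalization.map_eq]
    rfl
  obtain ⟨B, _, _, hBfin, hBet, ⟨e⟩⟩ := AbhyLib.exists_extension R hreg (algebraMap R0 R ϖ) hG0 S K C
    fun L _ _ _ _ _ _ _ _ _ ψ hψ =>
      unr_codimOne R0 R hreg0 hreg R1 h ϖ hϖ hrad0 t hrad n ht hn S C C0 ι hgen act hG htrans K L ψ hψ
  haveI := hBfin
  haveI := hBet
  haveI : Algebra.IsIntegral R B := Algebra.IsIntegral.of_finite R B
  let θ : B →ₐ[R] C := ((e.restrictScalars R).toAlgHom).comp Algebra.TensorProduct.includeRight
  have hθ : Function.Injective θ := e.injective.comp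
    (Algebra.TensorProduct.includeRight_injective (IsLocalization.injective S hM))
  let θ' : B →ₐ[R] integralClosure R C := θ.codRestrict _ fun x => (Algebra.IsIntegral.isIntegral (R := R) x).map θ
  have hθ' : Function.Bijective θ' := by
    refine ⟨fun x y h => hθ (congrArg Subtype.val h), fun x => ?_⟩
    let f : S ⊗[R] B →ₐ[R] K ⊗[R] B := Algebra.TensorProduct.map (IsScalarTower.toAlgHom R S K) (AlgHom.id R B)
    have hf : Function.Injective f := Module.Flat.rTensor_preserves_injective_linearMap
      (IsScalarTower.toAlgHom R S K).toLinearMap (by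
        have := IsFractionRing.isFractionRing_of_isLocalization (Submonoid.powers (algebraMap R0 R ϖ)) S K hM
        exact IsFractionRing.injective S K)
    let c : K ⊗[R] B ≃ₐ[R] B ⊗[R] K := Algebra.TensorProduct.comm R K B
    have hint : IsIntegral R (c (f (e.symm (x : C)))) :=
      (x.2 : IsIntegral R (x : C)).map ((c.toAlgHom.comp f).comp (e.restrictScalars R).symm.toAlgHom)
    obtain ⟨b, hb⟩ := Groth.Agent.FinMult.mem_range_of_isIntegral (R := R) K (S := B) hint.tower_top
    refine ⟨b, Subtype.ext (show θ b = x from ?_)⟩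
    have h2 : (1 : S) ⊗ₜ[R] b = e.symm (x : C) := hf (c.injective (by rw [← hb]; simp [f, c]))
    show e ((1 : S) ⊗ₜ[R] b) = x
    rw [h2, AlgEquiv.apply_symm_apply]
  let eB := AlgEquiv.ofBijective θ' hθ'
  exact ⟨Module.Finite.equiv eB.toLinearEquiv, Algebra.Etale.of_equiv eB⟩

end AbhyCurve
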