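import Groth.Agent.AbhyCurveLib.Ring
import Groth.Agent.AbhyCurveLib.Basic
import Groth.Prelude.Def_FEt

/-! A Galois cover of the generic fibre extends after a root of the uniformiser. -/

set_option autoImplicit false
set_option linter.style.haveILetI false
set_option maxHeartbeats 4000000
set_option synthInstance.maxHeartbeats 200000
universe u

noncomputable section

open CategoryTheory CategoryTheory.Limits AlgebraicGeometry TopologicalSpace Opposite

namespace AbhyCurve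

variable {V K : Type u} [CommRing V] [IsDomain V] [IsDiscreteValuationRing V] [Field K] [Algebra V K]
    [IsFractionRing V K]

theorem away_uniformizer (ϖ : V) (hϖ : Irreducible ϖ) : IsLocalization.Away ϖ K :=
  (IsLocalization.iff_of_le_of_exists_dvd (M := Submonoid.powers ϖ) (S := K)
    (nonZeroDivisors V) (powers_le_nonZeroDivisors_of_noZeroDivisors hϖ.ne_zero) fun n hn => by
      obtain ⟨k, u, rfl⟩ := IsDiscreteValuationRing.eq_unit_mul_pow_irreducible (nonZeroDivisors.ne_zero hn) hϖ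
      exact ⟨ϖ ^ k, ⟨k, rfl⟩, (Units.mul_left_dvd).2 dvd_rfl⟩).2 inferInstance

theorem galois_extends (ϖ : V) (hϖ : Irreducible ϖ) (n : ℕ) (hn : IsUnit (n : V))
    {X : Scheme.{u}} (f : X ⟶ Spec (CommRingCat.of V)) [Smooth f] [IrreducibleSpace ↥X]
    (Xt : FEt.Cat (pullback f (Spec.map (CommRingCat.ofHom (algebraMap V K)))))
    (hgal : ∀ (Ω : Type u) [Field Ω] [IsAlgClosed Ω]
      (ξ : Spec (CommRingCat.of Ω) ⟶ pullback f (Spec.map (CommRingCat.ofHom (algebraMap V K))))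
      (s s' : FEt.fiberObj ξ Xt), ∃ σ : Aut Xt, (FEt.fiber ξ).map σ.hom s = s')
    (hdeg : Nat.card (Aut Xt) = n) :
    ∃ Y₁ : FEt.Cat (pullback f (Spec.map (CommRingCat.ofHom
        (algebraMap V (AdjoinRoot (Polynomial.X ^ n - Polynomial.C ϖ)))))),
      Nonempty ((FEt.restrict (pullback.snd
          (pullback.fst f (Spec.map (CommRingCat.ofHom (algebraMap V K))))
          (pullback.fst f (Spec.map (CommRingCat.ofHom
            (algebraMap V (AdjoinRoot (Polynomial.X ^ n - Polynomial.C ϖ)))))))).obj Y₁ ≅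
        (FEt.restrict (pullback.fst
          (pullback.fst f (Spec.map (CommRingCat.ofHom (algebraMap V K))))
          (pullback.fst f (Spec.map (CommRingCat.ofHom
            (algebraMap V (AdjoinRoot (Polynomial.X ^ n - Polynomial.C ϖ)))))))).obj Xt) := by
  classical
  have hn1 : 1 ≤ n := Nat.one_le_iff_ne_zero.2 fun h0 => by simp [h0] at hn
  haveI : Finite (Aut Xt) := Nat.finite_of_card_ne_zero (by omega)
  haveI hAway : IsLocalization.Away ϖ K := away_uniformizer ϖ hϖ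
  obtain ⟨_, _, hmax1, hroot⟩ := root_extension V ϖ hϖ n hn1
  let V1 := AdjoinRoot (Polynomial.X ^ n - Polynomial.C ϖ)
  let t1 : V1 := AdjoinRoot.root _
  let η := Spec.map (CommRingCat.ofHom (algebraMap V K))
  let σ₁ := Spec.map (CommRingCat.ofHom (algebraMap V V1))
  haveI : IsOpenImmersion η := IsOpenImmersion.of_isLocalization ϖ
  have hmonic : (Polynomial.X ^ n - Polynomial.C ϖ : Polynomial V).Monic := Polynomial.monic_X_pow_sub_C _ (by omega)
  haveI : Module.Finite V V1 := hmonic.finite_adjoinRoot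
  haveI : Module.Free V V1 := hmonic.free_adjoinRoot
  haveI : IsFinite σ₁ := (IsFinite.SpecMap_iff _).2 (RingHom.finite_algebraMap.2 inferInstance)
  haveI : Flat σ₁ := by
    rw [HasRingHomProperty.Spec_iff (P := @Flat)]
    exact RingHom.flat_algebraMap_iff.2 inferInstance
  let X1 := pullback f σ₁
  let q1 : X1 ⟶ X := pullback.fst f σ₁
  let f1 : X1 ⟶ Spec (CommRingCat.of V1) := pullback.snd f σ₁
  haveI : IsFinite q1 := MorphismProperty.pullback_fst _ _ inferInstance
  haveI : Flat q1 := MorphismProperty.pullback_fst _ _ inferInstance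
  haveI : Smooth f1 := MorphismProperty.pullback_snd _ _ inferInstance
  let fη : pullback f η ⟶ X := pullback.fst f η
  haveI : IsOpenImmersion fη := inferInstance
  haveI : IsAffineHom fη := MorphismProperty.pullback_fst _ _ inferInstance
  let j : pullback fη q1 ⟶ X1 := pullback.snd fη q1
  haveI : IsOpenImmersion j := inferInstance
  haveI : IsAffineHom j := MorphismProperty.pullback_snd _ _ inferInstance
  let T : FEt.Cat (pullback fη q1) := (FEt.restrict (pullback.fst fη q1)).obj Xt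
  haveI : IsFinite T.hom := T.prop.1
  haveI : Etale T.hom := T.prop.2
  haveI : IsFinite Xt.hom := Xt.prop.1
  haveI : Etale Xt.hom := Xt.prop.2
  let g0 : Xt.left ⟶ X := Xt.hom ≫ fη
  haveI : IsAffineHom g0 := inferInstance
  haveI : Etale g0 := inferInstance
  let g : T.left ⟶ X1 := T.hom ≫ j
  haveI : IsAffineHom g := inferInstance
  let prT : T.left ⟶ Xt.left := pullback.fst Xt.hom (pullback.fst fη q1)
  have hprT : prT ≫ g0 = g ≫ q1 := by
    exact (pullback.condition_assoc fη).trans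
      ((congrArg (T.hom ≫ ·) (pullback.condition (f := fη) (g := q1))).trans (Category.assoc _ _ _).symm)
  -- the open piece
  let B : (Spec (CommRingCat.of V)).Opens := (Spec (CommRingCat.of V)).basicOpen ((Scheme.ΓSpecIso (CommRingCat.of V)).inv ϖ)
  have hB : Set.range η = (B : Set (Spec (CommRingCat.of V))) := by
    have hBe : B = PrimeSpectrum.basicOpen ϖ := basicOpen_eq_of_affine (R := CommRingCat.of V) ϖ
    rw [hBe]
    exact PrimeSpectrum.localization_away_comap_range K ϖ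
  let U : X1.Opens := q1 ⁻¹ᵁ (f ⁻¹ᵁ B)
  have hU : j.opensRange = U := by
    ext1
    rw [Scheme.Hom.coe_opensRange, Scheme.Pullback.range_snd, Scheme.Pullback.range_fst, hB]
    rfl
  have hgU : ∀ O : X1.Opens, g ⁻¹ᵁ O ≤ g ⁻¹ᵁ U := fun O v _ => by
    show g v ∈ U
    rw [← hU]
    exact ⟨T.hom v, rfl⟩
  -- noetherian, regular
  haveI : IsLocallyNoetherian X := LocallyOfFiniteType.isLocallyNoetherian f
  haveI : IsLocallyNoetherian X1 := LocallyOfFiniteType.isLocallyNoetherian f1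
  have hsm0 : ∀ (W : X.Opens), IsAffineOpen W →
      ((f.appLE ⊤ W le_top).hom.comp (Scheme.ΓSpecIso (CommRingCat.of V)).inv.hom).Smooth := fun W hW =>
    RingHom.Smooth.respectsIso.2 _ (Scheme.ΓSpecIso (CommRingCat.of V)).symm.commRingCatIsoToRingEquiv
      (HasRingHomProperty.appLE @Smooth f inferInstance ⟨⊤, isAffineOpen_top _⟩ ⟨W, hW⟩ le_top)
  have hsm1 : ∀ (W : X1.Opens), IsAffineOpen W →
      ((f1.appLE ⊤ W le_top).hom.comp (Scheme.ΓSpecIso (CommRingCat.of V1)).inv.hom).Smooth := fun W hW =>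
    RingHom.Smooth.respectsIso.2 _ (Scheme.ΓSpecIso (CommRingCat.of V1)).symm.commRingCatIsoToRingEquiv
      (HasRingHomProperty.appLE @Smooth f1 inferInstance ⟨⊤, isAffineOpen_top _⟩ ⟨W, hW⟩ le_top)
  have hregΓ : ∀ (W : X.Opens), IsAffineOpen W → IsRegularRing Γ(X, W) := fun W hW => by
    letI : Algebra V Γ(X, W) := ((f.appLE ⊤ W le_top).hom.comp (Scheme.ΓSpecIso (CommRingCat.of V)).inv.hom).toAlgebra
    haveI : Algebra.Smooth V Γ(X, W) := RingHom.smooth_algebraMap.1 (hsm0 W hW)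
    exact CohenLib.isRegularRing_of_smooth V Γ(X, W)
  have hregΓ1 : ∀ (W : X1.Opens), IsAffineOpen W → IsRegularRing Γ(X1, W) := fun W hW => by
    letI : Algebra V1 Γ(X1, W) := ((f1.appLE ⊤ W le_top).hom.comp (Scheme.ΓSpecIso (CommRingCat.of V1)).inv.hom).toAlgebra
    haveI : Algebra.Smooth V1 Γ(X1, W) := RingHom.smooth_algebraMap.1 (hsm1 W hW)
    exact CohenLib.isRegularRing_of_smooth V1 Γ(X1, W)
  have hreg1 : ∀ x : X1, IsRegularLocalRing (X1.presheaf.stalk x) := fun x => by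
    obtain ⟨_, ⟨W, hW, rfl⟩, hx, -⟩ := X1.isBasis_affineOpens.exists_subset_of_mem_open (Set.mem_univ x) isOpen_univ
    haveI := hregΓ1 W hW
    letI := TopCat.Presheaf.algebra_section_stalk X1.presheaf (⟨x, hx⟩ : (W : X1.Opens))
    haveI : IsLocalization.AtPrime (X1.presheaf.stalk x) (hW.primeIdealOf ⟨x, hx⟩).asIdeal := hW.isLocalization_stalk ⟨x, hx⟩
    exact IsRegularLocalRing.of_ringEquiv (IsLocalization.algEquiv (hW.primeIdealOf ⟨x, hx⟩).asIdeal.primeCompl
      (Localization.AtPrime (hW.primeIdealOf ⟨x, hx⟩).asIdeal) (X1.presheaf.stalk x)).toRingEquiv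
  haveI : AlgebraicGeometry.IsReduced X := AlgSpLib.isReduced_of_smooth f
  haveI : IsIntegral X := isIntegral_of_irreducibleSpace_of_isReduced X
  -- charts
  have hchart : ∀ x : X1, ∃ W : X1.Opens, x ∈ W ∧ IsAffineOpen W ∧
      (letI := (g.app W).hom.toAlgebra
       Module.Finite Γ(X1, W) (integralClosure Γ(X1, W) Γ(T.left, g ⁻¹ᵁ W)) ∧
       Algebra.Etale Γ(X1, W) (integralClosure Γ(X1, W) Γ(T.left, g ⁻¹ᵁ W))) := by
    intro x
    obtain ⟨_, ⟨W0, hW0, rfl⟩, hx0, -⟩ := X.isBasis_affineOpens.exists_subset_of_mem_open (Set.mem_univ (q1 x)) isOpen_univ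
    let W1 := q1 ⁻¹ᵁ W0
    have hW1 : IsAffineOpen W1 := hW0.preimage q1
    obtain ⟨h, hxh, hdom⟩ := exists_basic_domain hreg1 hW1 x hx0
    let W := X1.basicOpen h
    have hW : IsAffineOpen W := hW1.basicOpen h
    have hWle : W ≤ q1 ⁻¹ᵁ W0 := X1.basicOpen_le h
    refine ⟨W, hxh, hW, ?_⟩
    haveI := hdom
    haveI : Nonempty W0 := ⟨⟨q1 x, hx0⟩⟩
    haveI : IsDomain Γ(X, W0) := inferInstance
    haveI := hregΓ W0 hW0
    haveI := hregΓ1 W hW
    haveI : IsNoetherianRing Γ(X, W0) := IsLocallyNoetherian.component_noetherian ⟨W0, hW0⟩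
    haveI : IsNoetherianRing Γ(X1, W) := IsLocallyNoetherian.component_noetherian ⟨W, hW⟩
    letI algR1 : Algebra Γ(X, W0) Γ(X1, W1) := (q1.app W0).hom.toAlgebra
    haveI : Module.Finite Γ(X, W0) Γ(X1, W1) := RingHom.finite_algebraMap.1 (q1.finite_app _ hW0)
    letI algR : Algebra Γ(X, W0) Γ(X1, W) := (q1.appLE W0 W hWle).hom.toAlgebra
    haveI : IsScalarTower Γ(X, W0) Γ(X1, W1) Γ(X1, W) := IsScalarTower.of_algebraMap_eq fun y => rfl
    haveI : IsLocalization.Away h Γ(X1, W) := hW1.isLocalization_basicOpen h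
    haveI : Module.Flat Γ(X, W0) Γ(X1, W) := RingHom.flat_algebraMap_iff.1
      (HasRingHomProperty.appLE @Flat q1 inferInstance ⟨W0, hW0⟩ ⟨W, hW⟩ hWle)
    let β0 : V →+* Γ(X, W0) := (f.appLE ⊤ W0 le_top).hom.comp (Scheme.ΓSpecIso (CommRingCat.of V)).inv.hom
    let β1 : V1 →+* Γ(X1, W) := (f1.appLE ⊤ W le_top).hom.comp (Scheme.ΓSpecIso (CommRingCat.of V1)).inv.hom
    have hcomm : ∀ v : V, algebraMap Γ(X, W0) Γ(X1, W) (β0 v) = β1 (algebraMap V V1 v) := fun v => by
      show (f.appLE ⊤ W0 le_top ≫ q1.appLE W0 W hWle).hom ((Scheme.ΓSpecIso (CommRingCat.of V)).inv v) =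
        (f1.appLE ⊤ W le_top).hom ((CommRingCat.ofHom (algebraMap V V1) ≫ (Scheme.ΓSpecIso (CommRingCat.of V1)).inv) v)
      rw [Scheme.ΓSpecIso_inv_naturality, Scheme.Hom.appLE_comp_appLE]
      show _ = (σ₁.appTop ≫ f1.appLE ⊤ W le_top).hom _
      rw [Scheme.Hom.appTop, Scheme.Hom.app_eq_appLE]
      erw [Scheme.Hom.appLE_comp_appLE]
      congr 2
      exact congrArg (fun m : X1 ⟶ Spec (CommRingCat.of V) => m.appLE ⊤ W le_top) pullback.condition
    let ϖ0 : Γ(X, W0) := β0 ϖ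
    have hflat0 : β0.Flat := by
      letI := β0.toAlgebra
      haveI : Algebra.Smooth V Γ(X, W0) := RingHom.smooth_algebraMap.1 (hsm0 W0 hW0)
      exact RingHom.flat_algebraMap_iff.2 inferInstance
    have hϖ0 : ϖ0 ≠ 0 := fun h0 => by
      letI := β0.toAlgebra
      haveI : Module.Flat V Γ(X, W0) := RingHom.flat_algebraMap_iff.1 hflat0
      exact one_ne_zero ((smul_eq_zero.1 (show ϖ • (1 : Γ(X, W0)) = 0 by
        rw [Algebra.smul_def, mul_one]; exact h0)).resolve_left hϖ.ne_zero)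
    have hrad0 : (Ideal.span {ϖ0}).IsRadical := by
      letI := β0.toAlgebra
      haveI : Algebra.Smooth V Γ(X, W0) := RingHom.smooth_algebraMap.1 (hsm0 W0 hW0)
      exact isRadical_span_of_smooth (B := Γ(X, W0)) ϖ
        (by rw [← hϖ.maximalIdeal_eq]; exact IsLocalRing.maximalIdeal.isMaximal V)
    have hrad1 : (Ideal.span {β1 t1}).IsRadical := by
      letI := β1.toAlgebra
      haveI : Algebra.Smooth V1 Γ(X1, W) := RingHom.smooth_algebraMap.1 (hsm1 W hW)
      exact isRadical_span_of_smooth (B := Γ(X1, W)) t1 (by rw [← hmax1]; exact IsLocalRing.maximalIdeal.isMaximal V1)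
    have ht : β1 t1 ^ n = algebraMap Γ(X, W0) Γ(X1, W) ϖ0 := by
      rw [hcomm, ← map_pow]; exact congrArg β1 hroot
    have hn0 : IsUnit ((n : ℕ) : Γ(X, W0)) := by
      have := hn.map β0
      rwa [map_natCast] at this
    -- the open `D`
    let ϖR : Γ(X1, W) := algebraMap Γ(X, W0) Γ(X1, W) ϖ0
    let D := X1.basicOpen ϖR
    have hD0 : X.basicOpen ϖ0 = W0 ⊓ f ⁻¹ᵁ B := by
      exact Scheme.basicOpen_appLE f W0 ⊤ le_top _
    have hD : D = W ⊓ U := by
      refine (Scheme.basicOpen_appLE q1 W W0 hWle ϖ0).trans ?_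
      rw [hD0, Scheme.Hom.preimage_inf, ← inf_assoc, inf_eq_left.2 hWle]
    have hDU : D ≤ U := hD.le.trans inf_le_right
    have hgD : g ⁻¹ᵁ W ≤ g ⁻¹ᵁ D := fun v hv => by
      show g v ∈ D
      rw [hD]; exact ⟨hv, hgU W hv⟩
    have hDaff : IsAffineOpen D := hW.basicOpen ϖR
    haveI : IsLocalization.Away (algebraMap Γ(X, W0) Γ(X1, W) ϖ0) Γ(X1, D) := hW.isLocalization_basicOpen ϖR
    letI algSC : Algebra Γ(X1, D) Γ(T.left, g ⁻¹ᵁ W) := (g.appLE D (g ⁻¹ᵁ W) hgD).hom.toAlgebra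
    obtain ⟨hfin, het⟩ : (g.appLE D (g ⁻¹ᵁ W) hgD).hom.Finite ∧ (g.appLE D (g ⁻¹ᵁ W) hgD).hom.Etale := by
      obtain ⟨p1, p2⟩ := app_props_open T.hom j hDaff (hU ▸ hDU)
      have heq : g ⁻¹ᵁ W = g ⁻¹ᵁ D := le_antisymm hgD (g.preimage_mono (X1.basicOpen_le ϖR))
      have hr : g.appLE D (g ⁻¹ᵁ W) hgD = g.app D ≫ T.left.presheaf.map (eqToHom heq).op := by
        simp only [Scheme.Hom.appLE]
        rfl
      rw [hr, CommRingCat.hom_comp]
      exact ⟨RingHom.finite_respectsIso.1 _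
          (asIso (T.left.presheaf.map (eqToHom heq).op)).commRingCatIsoToRingEquiv p1,
        RingHom.Etale.respectsIso.1 _
          (asIso (T.left.presheaf.map (eqToHom heq).op)).commRingCatIsoToRingEquiv p2⟩
    haveI : Module.Finite Γ(X1, D) Γ(T.left, g ⁻¹ᵁ W) := RingHom.finite_algebraMap.1 hfin
    haveI : Algebra.Etale Γ(X1, D) Γ(T.left, g ⁻¹ᵁ W) := RingHom.etale_algebraMap.1 het
    letI algRC : Algebra Γ(X1, W) Γ(T.left, g ⁻¹ᵁ W) := (g.app W).hom.toAlgebra
    haveI : IsScalarTower Γ(X1, W) Γ(X1, D) Γ(T.left, g ⁻¹ᵁ W) := IsScalarTower.of_algebraMap_eq fun y => by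
      show (g.app W).hom y = (X1.presheaf.map (homOfLE (X1.basicOpen_le ϖR)).op ≫ g.appLE D (g ⁻¹ᵁ W) hgD).hom y
      rw [Scheme.Hom.map_appLE, Scheme.Hom.app_eq_appLE]
    letI algR0C : Algebra Γ(X, W0) Γ(T.left, g ⁻¹ᵁ W) :=
      ((algebraMap Γ(X1, W) Γ(T.left, g ⁻¹ᵁ W)).comp (algebraMap Γ(X, W0) Γ(X1, W))).toAlgebra
    haveI : IsScalarTower Γ(X, W0) Γ(X1, W) Γ(T.left, g ⁻¹ᵁ W) := IsScalarTower.of_algebraMap_eq fun _ => rfl
    -- the generic chart
    let O0 := g0 ⁻¹ᵁ W0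
    have hO0 : IsAffineOpen O0 := hW0.preimage g0
    letI algC0 : Algebra Γ(X, W0) Γ(Xt.left, O0) := (g0.app W0).hom.toAlgebra
    haveI : Algebra.Etale Γ(X, W0) Γ(Xt.left, O0) := RingHom.etale_algebraMap.1 (by
      have := HasRingHomProperty.appLE @Etale g0 inferInstance ⟨W0, hW0⟩ ⟨O0, hO0⟩ le_rfl
      rwa [← Scheme.Hom.app_eq_appLE] at this)
    have hpr : g ⁻¹ᵁ W ≤ prT ⁻¹ᵁ O0 := fun v hv => by
      show (prT ≫ g0) v ∈ W0
      rw [hprT]; exact hWle hv
    let ι : Γ(Xt.left, O0) →ₐ[Γ(X, W0)] Γ(T.left, g ⁻¹ᵁ W) :=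
      { (prT.appLE O0 (g ⁻¹ᵁ W) hpr).hom with
        commutes' := fun y => by
          show (g0.app W0 ≫ prT.appLE O0 (g ⁻¹ᵁ W) hpr).hom y = (q1.appLE W0 W hWle ≫ g.app W).hom y
          rw [Scheme.Hom.app_eq_appLE, Scheme.Hom.app_eq_appLE, Scheme.Hom.appLE_comp_appLE,
            Scheme.Hom.appLE_comp_appLE]
          simp only [hprT] }
    have hCaff : IsAffineOpen (g ⁻¹ᵁ W) := hW.preimage g
    have hgen : ∀ (Ω : Type u) [Field Ω] [IsAlgClosed Ω] (χ χ' : Γ(T.left, g ⁻¹ᵁ W) →+* Ω),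
        χ.comp (algebraMap Γ(X1, W) Γ(T.left, g ⁻¹ᵁ W)) = χ'.comp (algebraMap Γ(X1, W) Γ(T.left, g ⁻¹ᵁ W)) →
        (∀ c, χ (ι c) = χ' (ι c)) → χ = χ' := by
      intro Ω _ _ χ χ' h1 h2
      have key : ∀ c : Γ(T.left, g ⁻¹ᵁ W) →+* Ω,
          (Spec.map (CommRingCat.ofHom c) ≫ hCaff.fromSpec) ≫ g =
            Spec.map (CommRingCat.ofHom (c.comp (g.app W).hom)) ≫ hW.fromSpec ∧
          (Spec.map (CommRingCat.ofHom c) ≫ hCaff.fromSpec) ≫ prT =
            Spec.map (CommRingCat.ofHom (c.comp (prT.appLE O0 (g ⁻¹ᵁ W) hpr).hom)) ≫ hO0.fromSpec := fun c => by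
        constructor
        · rw [Category.assoc, ← IsAffineOpen.SpecMap_appLE_fromSpec g hW hCaff le_rfl, ← Spec.map_comp_assoc,
            ← Scheme.Hom.app_eq_appLE]
          rfl
        · rw [Category.assoc, ← IsAffineOpen.SpecMap_appLE_fromSpec prT hO0 hCaff hpr, ← Spec.map_comp_assoc]
          rfl
      have e1 : (Spec.map (CommRingCat.ofHom χ) ≫ hCaff.fromSpec) ≫ g = (Spec.map (CommRingCat.ofHom χ') ≫ hCaff.fromSpec) ≫ g := by
        rw [(key χ).1, (key χ').1]
        exact congrArg (fun r : Γ(X1, W) →+* Ω => Spec.map (CommRingCat.ofHom r) ≫ hW.fromSpec) h1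
      have e2 : (Spec.map (CommRingCat.ofHom χ) ≫ hCaff.fromSpec) ≫ prT = (Spec.map (CommRingCat.ofHom χ') ≫ hCaff.fromSpec) ≫ prT := by
        rw [(key χ).2, (key χ').2]
        exact congrArg (fun r : Γ(Xt.left, O0) →+* Ω => Spec.map (CommRingCat.ofHom r) ≫ hO0.fromSpec) (RingHom.ext h2)
      have e3 : (Spec.map (CommRingCat.ofHom χ) ≫ hCaff.fromSpec) ≫ T.hom = (Spec.map (CommRingCat.ofHom χ') ≫ hCaff.fromSpec) ≫ T.hom := by
        rw [← cancel_mono j, Category.assoc _ T.hom j, Category.assoc _ T.hom j]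
        exact e1
      have e4 : Spec.map (CommRingCat.ofHom χ) ≫ hCaff.fromSpec = Spec.map (CommRingCat.ofHom χ') ≫ hCaff.fromSpec :=
        pullback.hom_ext e2 e3
      rw [cancel_mono] at e4
      exact congrArg CommRingCat.Hom.hom (Spec.map_injective e4)
    -- the group action
    have hend : ∀ s : Xt ⟶ Xt, O0 ≤ s.left ⁻¹ᵁ O0 := fun s v hv => by
      show (s.left ≫ g0) v ∈ W0
      rw [show s.left ≫ g0 = g0 by show s.left ≫ Xt.hom ≫ fη = _; rw [← Category.assoc]; exact congrArg (· ≫ fη) (Over.w s.hom)]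
      exact hv
    let F : (Xt ⟶ Xt) → (Γ(Xt.left, O0) →ₐ[Γ(X, W0)] Γ(Xt.left, O0)) := fun s =>
      { (s.left.appLE O0 O0 (hend s)).hom with
        commutes' := fun y => by
          show (g0.app W0 ≫ s.left.appLE O0 O0 (hend s)).hom y = (g0.app W0).hom y
          rw [Scheme.Hom.app_eq_appLE, Scheme.Hom.appLE_comp_appLE]
          have hw : s.left ≫ g0 = g0 := by
            show s.left ≫ Xt.hom ≫ fη = _
            rw [← Category.assoc]; exact congrArg (· ≫ fη) (Over.w s.hom)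
          simp only [hw]
          rfl }
    have hFcomp : ∀ (s s' : Xt ⟶ Xt) (c : Γ(Xt.left, O0)), F (s ≫ s') c = F s (F s' c) := fun s s' c => by
      show ((s.left ≫ s'.left).appLE O0 O0 _).hom c = (s'.left.appLE O0 O0 (hend s') ≫ s.left.appLE O0 O0 (hend s)).hom c
      rw [Scheme.Hom.appLE_comp_appLE]
    have hFid : ∀ c, F (𝟙 Xt) c = c := fun c => by
      show ((𝟙 Xt.left : Xt.left ⟶ Xt.left).appLE O0 O0 _).hom c = c
      simp [Scheme.Hom.appLE]
      show (Xt.left.presheaf.map (𝟙 (op O0))).hom c = c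
      simp
    let act : Aut Xt →* (Γ(Xt.left, O0) ≃ₐ[Γ(X, W0)] Γ(Xt.left, O0)) :=
      MonoidHom.mk' (fun s => AlgEquiv.ofAlgHom (F s.inv) (F s.hom)
          (AlgHom.ext fun c => by
            show F s.inv (F s.hom c) = c
            rw [← hFcomp, s.inv_hom_id, hFid])
          (AlgHom.ext fun c => by
            show F s.hom (F s.inv c) = c
            rw [← hFcomp, s.hom_inv_id, hFid]))
        fun s s' => AlgEquiv.ext fun c => by
          show F (s * s').inv c = F s.inv (F s'.inv c)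
          rw [← hFcomp]
          rfl
    have htrans : ∀ (Ω : Type u) [Field Ω] [IsAlgClosed Ω] [Algebra Γ(X, W0) Ω],
        Function.Injective (algebraMap Γ(X, W0) Ω) →
        ∀ χ χ' : Γ(Xt.left, O0) →ₐ[Γ(X, W0)] Ω, ∃ s, χ' = χ.comp (act s).toAlgHom := by
      intro Ω _ _ _ _ χ χ'
      let pt : (Γ(Xt.left, O0) →ₐ[Γ(X, W0)] Ω) → (Spec (CommRingCat.of Ω) ⟶ Xt.left) := fun c =>
        Spec.map (CommRingCat.ofHom c.toRingHom) ≫ hO0.fromSpec
      have hpt : ∀ c, pt c ≫ g0 = Spec.map (CommRingCat.ofHom (algebraMap Γ(X, W0) Ω)) ≫ hW0.fromSpec := fun c => by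
        show (Spec.map _ ≫ hO0.fromSpec) ≫ g0 = _
        rw [Category.assoc, ← IsAffineOpen.SpecMap_appLE_fromSpec g0 hW0 hO0 le_rfl, ← Spec.map_comp_assoc,
          ← Scheme.Hom.app_eq_appLE]
        congr 2
        exact CommRingCat.hom_ext (RingHom.ext fun y => c.commutes y)
      have hov : pt χ' ≫ Xt.hom = pt χ ≫ Xt.hom := by
        rw [← cancel_mono fη, Category.assoc, Category.assoc]
        exact (hpt χ').trans (hpt χ).symm
      obtain ⟨s, hs⟩ := hgal Ω (pt χ ≫ Xt.hom) ⟨pt χ, rfl⟩ ⟨pt χ', hov⟩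
      refine ⟨s⁻¹, AlgHom.ext fun c => ?_⟩
      have h1 : pt χ ≫ s.hom.left = pt χ' := congrArg Subtype.val hs
      have h2 : pt χ ≫ s.hom.left =
          Spec.map (CommRingCat.ofHom (χ.toRingHom.comp (s.hom.left.appLE O0 O0 (hend s.hom)).hom)) ≫ hO0.fromSpec := by
        show (Spec.map _ ≫ hO0.fromSpec) ≫ s.hom.left = _
        rw [Category.assoc, ← IsAffineOpen.SpecMap_appLE_fromSpec s.hom.left hO0 hO0 (hend s.hom), ← Spec.map_comp_assoc]
        rfl
      rw [h2, cancel_mono] at h1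
      exact (RingHom.congr_fun (congrArg CommRingCat.Hom.hom (Spec.map_injective h1)) c).symm
    haveI : IsIntegrallyClosed Γ(X1, W) := IsIntegrallyClosed.of_localization_maximal fun m _ _ => by
      haveI : IsRegularLocalRing (Localization.AtPrime m) := isRegularRing_iff.1 inferInstance m
      haveI : IsDomain (Localization.AtPrime m) := IsLocalization.isDomain_localization m.primeCompl_le_nonZeroDivisors
      exact NormalLib.isIntegrallyClosed_of_isRegularLocalRing _
    exact integralClosure_finite_etale Γ(X, W0) Γ(X1, W) (fun p _ => isRegularRing_iff.1 inferInstance p)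
      (fun p _ => isRegularRing_iff.1 inferInstance p) Γ(X1, W1) h ϖ0 hϖ0 hrad0 (β1 t1) hrad1 n ht hn0
      Γ(X1, D) Γ(T.left, g ⁻¹ᵁ W) Γ(Xt.left, O0) ι hgen act hdeg htrans
  -- normalisation
  let π := g.fromNormalization
  let t := g.toNormalization
  have htπ : t ≫ π = g := g.toNormalization_fromNormalization
  choose W hxW hWa hWprops using hchart
  have hsup : (⨆ x, W x) = ⊤ := eq_top_iff.2 fun x _ => Opens.mem_iSup.2 ⟨x, hxW x⟩
  have hπ : ∀ x, IsFinite (π ∣_ W x) ∧ Etale (π ∣_ W x) := by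
    intro x
    haveI : IsAffine (W x : Scheme.{u}) := hWa x
    haveI : IsAffine (π ⁻¹ᵁ W x : Scheme.{u}) := (hWa x).preimage π
    letI : Algebra Γ(X1, W x) Γ(T.left, g ⁻¹ᵁ W x) := (g.app (W x)).hom.toAlgebra
    obtain ⟨hfin', het'⟩ := hWprops x
    have happ : (π.app (W x)).hom.Finite ∧ (π.app (W x)).hom.Etale := by
      rw [g.fromNormalization_app (hWa x)]
      exact ⟨RingHom.finite_respectsIso.1 _ (g.normalizationObjIso (hWa x)).symm.commRingCatIsoToRingEquiv
          (RingHom.finite_algebraMap.2 hfin'),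
        RingHom.Etale.respectsIso.1 _ (g.normalizationObjIso (hWa x)).symm.commRingCatIsoToRingEquiv
          (RingHom.etale_algebraMap.2 het')⟩
    have e := arrowResLEAppIso π (W x) (π ⁻¹ᵁ W x) le_rfl
    rw [Scheme.Hom.resLE_eq_morphismRestrict, ← Scheme.Hom.app_eq_appLE] at e
    refine ⟨?_, ?_⟩
    · rw [HasAffineProperty.iff_of_isAffine (P := @IsFinite)]
      refine ⟨inferInstance, ?_⟩
      rw [RingHom.finite_respectsIso.arrow_mk_iso_iff e]
      exact happ.1
    · rw [HasRingHomProperty.iff_of_isAffine (P := @Etale),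
        RingHom.Etale.respectsIso.arrow_mk_iso_iff e]
      exact happ.2
  haveI : IsFinite π := (IsZariskiLocalAtTarget.iff_of_iSup_eq_top (P := @IsFinite) _ hsup).2 fun x => (hπ x).1
  haveI : Etale π := (IsZariskiLocalAtTarget.iff_of_iSup_eq_top (P := @Etale) _ hsup).2 fun x => (hπ x).2
  let N : g.normalization.Opens := π ⁻¹ᵁ U
  let t' : T.left ⟶ (N : Scheme.{u}) := IsOpenImmersion.lift N.ι t (by
    rintro _ ⟨v, rfl⟩
    rw [Scheme.Opens.range_ι]
    show (t ≫ π) v ∈ U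
    rw [htπ]
    exact hgU ⊤ (Opens.mem_top v))
  have ht' : t' ≫ N.ι = t := IsOpenImmersion.lift_fac _ _ _
  let eU : pullback fη q1 ≅ (U : Scheme.{u}) := IsOpenImmersion.isoOfRangeEq j U.ι (by
    rw [Scheme.Opens.range_ι, ← hU]; rfl)
  have heU : eU.hom ≫ U.ι = j := IsOpenImmersion.isoOfRangeEq_hom_fac _ _ _
  have hcomp : t' ≫ π ∣_ U = T.hom ≫ eU.hom := by
    rw [← cancel_mono U.ι, Category.assoc, morphismRestrict_ι, reassoc_of% ht', htπ, Category.assoc, heU]
  haveI : Smooth g := inferInstance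
  haveI : IsOpenImmersion t := inferInstance
  haveI : IsOpenImmersion t' := by
    haveI : IsOpenImmersion (t' ≫ N.ι) := ht' ▸ inferInstance
    exact IsOpenImmersion.of_comp t' N.ι
  haveI : IsProper t' := by
    haveI : IsProper (t' ≫ π ∣_ U) := by rw [hcomp]; infer_instance
    exact IsProper.of_comp t' (π ∣_ U)
  haveI : Surjective t' := by
    refine ⟨fun w => ?_⟩
    have hcl : IsClosed (Set.range t') := t'.isClosedMap.isClosed_range
    have hd : DenseRange t' := by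
      rw [DenseRange, dense_iff_inter_open]
      intro O hO hne
      have hO' : IsOpen (N.ι '' O) := N.ι.isOpenEmbedding.isOpenMap O hO
      obtain ⟨_, ⟨o, ho, rfl⟩, v, hv⟩ := (t.denseRange).inter_open_nonempty (N.ι '' O) hO' (hne.image _)
      refine ⟨o, ho, v, N.ι.isOpenEmbedding.injective ?_⟩
      rw [← Scheme.Hom.comp_apply, ht', hv]
    have : Set.range t' = Set.univ := by rw [← hcl.closure_eq, hd.closure_range]
    exact this.ge (Set.mem_univ w)
  haveI : IsIso t' := (isIso_iff_isOpenImmersion_and_surjective _).2 ⟨inferInstance, inferInstance⟩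
  let Z : FEt.Cat X1 := MorphismProperty.Over.mk ⊤ π ⟨inferInstance, inferInstance⟩
  have hpb : IsPullback t T.hom π j :=
    (isPullback_morphismRestrict π U).flip.of_iso (asIso t').symm (Iso.refl _) eU.symm (Iso.refl _)
      (by simp [← ht']; rfl) (by rw [Iso.symm_hom, Iso.symm_hom, asIso_inv, IsIso.eq_inv_comp, ← Category.assoc, hcomp]; simp)
      (by simp) (by simp [← heU])
  exact ⟨Z, ⟨MorphismProperty.Over.isoMk hpb.isoPullback.symm hpb.isoPullback_inv_snd⟩⟩

end AbhyCurve
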