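import Groth.Agent.EtRamTameLib.GaloisDegree
import Groth.Agent.AbhyLib.Absorb

/-! Galois ramification indices divide the degree; absorption of a given index. -/

set_option autoImplicit false
set_option linter.style.haveILetI false
set_option maxHeartbeats 2000000
set_option synthInstance.maxHeartbeats 200000
universe u

noncomputable section

namespace AbhyCurve

open IsLocalRing EtRamTameLib

set_option maxHeartbeats 800000 in
theorem idx_dvd_of_isGalois {A K L : Type u} [CommRing A] [IsDomain A] [IsDiscreteValuationRing A] [Field K] [Algebra A K]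
    [IsFractionRing A K] [Field L] [Algebra K L] [FiniteDimensional K L] [IsGalois K L]
    :
    ∀ (W : ValuationSubring L) (hW : EtRam.Dominates A ((algebraMap K L).comp (algebraMap A K)) W),
      letI : Algebra A W := (RingHom.codRestrict ((algebraMap K L).comp (algebraMap A K)) W hW.1).toAlgebra
      ∀ [IsLocalHom (algebraMap A W)],
      Ideal.ramificationIdx' (maximalIdeal A) (maximalIdeal W) ∣ Module.finrank K L := by
  classical
  letI : Algebra A L := ((algebraMap K L).comp (algebraMap A K)).toAlgebra
  haveI : IsScalarTower A K L := IsScalarTower.of_algebraMap_eq fun _ => rfl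
  intro W hW
  letI : Algebra A W := (RingHom.codRestrict ((algebraMap K L).comp (algebraMap A K)) W hW.1).toAlgebra
  intro hloc
  let B := integralClosure A L
  haveI : IsFractionRing B L := integralClosure.isFractionRing_of_finite_extension K L
  haveI : IsDedekindDomain B := IsIntegralClosure.isDedekindDomain A K L B
  haveI : Module.Finite A B := IsIntegralClosure.finite A K L B
  haveI : Algebra.IsIntegral A B := IsIntegralClosure.isIntegral_algebra A L
  letI := IsIntegralClosure.MulSemiringAction A K L B
  haveI : IsGaloisGroup Gal(L/K) A B := IsGaloisGroup.of_isFractionRing Gal(L/K) A B K L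
  have hinjL : Function.Injective (algebraMap A L) := (algebraMap K L).injective.comp (IsFractionRing.injective A K)
  haveI : Module.IsTorsionFree A B := Module.isTorsionFree_iff_algebraMap_injective.2
    fun a b h => hinjL (congrArg Subtype.val h)
  haveI : Module.Flat A B := IsDedekindDomain.flat_iff_torsion_eq_bot.2 (Submodule.isTorsionFree_iff_torsion_eq_bot.1 ‹_›)
  have hBW : ∀ b : B, (b : L) ∈ W := fun b =>
    (W.valuation_le_one_iff _).1 (SHDescLib.valuation_le_one_of_isIntegral (B := A) W hW b.2)
  let ι : B →+* W := B.val.toRingHom.codRestrict W.toSubring hBW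
  have hιA : ∀ a : A, ι (algebraMap A B a) = algebraMap A W a := fun a => rfl
  let P : Ideal B := (maximalIdeal W).comap ι
  haveI : P.IsPrime := Ideal.IsPrime.comap _
  haveI hover : P.LiesOver (maximalIdeal A) := ⟨(by
    refine le_antisymm (fun a ha => ?_) (IsLocalRing.le_maximalIdeal (Ideal.IsPrime.comap _).ne_top)
    show ι (algebraMap A B a) ∈ maximalIdeal W
    rw [hιA]
    exact fun hu => ha (isUnit_of_map_unit _ a hu))⟩
  haveI : P.IsMaximal := Ideal.IsMaximal.of_liesOver_isMaximal P (maximalIdeal A)
  have hden : ∀ z : W, ∃ s c : B, s ∉ P ∧ ι s * z = ι c := fun z => by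
    obtain ⟨s, hs, hs1, hsz⟩ := SHDescLib.exists_denominator (B := A) (L := K) (z := (z : L)) W hW
      (Algebra.IsAlgebraic.isAlgebraic _) z.2
    exact ⟨⟨s, hs⟩, ⟨_, hsz⟩, fun hm => hs1.not_lt ((W.valuation_lt_one_iff (ι ⟨s, hs⟩)).1 hm), Subtype.ext rfl⟩
  have hPW : P.map ι = maximalIdeal W := by
    refine le_antisymm Ideal.map_comap_le fun z hz => ?_
    obtain ⟨s, c, hs, hsc⟩ := hden z
    obtain ⟨u, hu⟩ := not_not.1 hs
    rw [show z = (u⁻¹ : Wˣ) * ι c by rw [← hsc, ← hu, Units.inv_mul_cancel_left]]
    exact Ideal.mul_mem_left _ _ (Ideal.mem_map_of_mem _ (show ι c ∈ maximalIdeal W by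
      rw [← hsc]; exact Ideal.mul_mem_left _ _ hz))
  have hpow : ∀ (k : ℕ) (x : B), ι x ∈ maximalIdeal W ^ k → x ∈ P ^ k := by
    intro k x hx
    rw [← hPW, ← Ideal.map_pow] at hx
    have key : ∀ z ∈ (P ^ k).map ι, ∃ s ∉ P, ∃ y ∈ P ^ k, ι s * z = ι y := fun z hz => by
      induction hz using Submodule.span_induction with
      | mem z hz => obtain ⟨y, hy, rfl⟩ := hz; exact ⟨1, (Ideal.ne_top_iff_one P).1 Ideal.IsPrime.ne_top', y, hy, by rw [map_one, one_mul]⟩
      | zero => exact ⟨1, (Ideal.ne_top_iff_one P).1 Ideal.IsPrime.ne_top', 0, zero_mem _, by rw [mul_zero, map_zero]⟩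
      | add z w _ _ hz hw =>
        obtain ⟨s, hs, y, hy, hsy⟩ := hz
        obtain ⟨t, ht, v, hv, htv⟩ := hw
        refine ⟨s * t, Ideal.IsPrime.mul_notMem ‹_› hs ht, t * y + s * v, add_mem (Ideal.mul_mem_left _ _ hy) (Ideal.mul_mem_left _ _ hv), ?_⟩
        rw [map_add, map_mul, map_mul, map_mul, ← hsy, ← htv]; ring
      | smul r z _ hz =>
        obtain ⟨s, hs, y, hy, hsy⟩ := hz
        obtain ⟨t, c, ht, htc⟩ := hden r
        refine ⟨t * s, Ideal.IsPrime.mul_notMem ‹_› ht hs, c * y, Ideal.mul_mem_left _ _ hy, ?_⟩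
        rw [map_mul, map_mul, ← hsy, ← htc, smul_eq_mul]; ring
    obtain ⟨s, hs, y, hy, hsy⟩ := key _ hx
    have h1 : s * x ∈ P ^ k := by
      rw [show s * x = y from Subtype.ext (congrArg Subtype.val hsy :)]; exact hy
    obtain ⟨t, ht⟩ : ∃ t, 1 - t * s ∈ P ^ k := by
      have h2 : Ideal.span {s} ⊔ P ^ k = ⊤ := Ideal.sup_pow_eq_top (by
        rw [sup_comm]
        exact ‹P.IsMaximal›.out.2 _ (lt_of_le_of_ne le_sup_left fun h => hs (h ▸
          Ideal.mem_sup_right (Ideal.mem_span_singleton_self _))))
      obtain ⟨a, ha, b, hb, hab⟩ := Submodule.mem_sup.1 ((Ideal.eq_top_iff_one _).1 h2)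
      obtain ⟨t, rfl⟩ := Ideal.mem_span_singleton'.1 ha
      exact ⟨t, by rw [show 1 - t * s = b by rw [← hab]; ring]; exact hb⟩
    rw [show x = (1 - t * s) * x + t * (s * x) by ring]
    exact add_mem (Ideal.mul_mem_right _ _ ht) (Ideal.mul_mem_left _ _ h1)
  have hidx : Ideal.ramificationIdx' (maximalIdeal A) (maximalIdeal W) = Ideal.ramificationIdx' (maximalIdeal A) P := by
    refine congrArg sSup (Set.ext fun k => ?_)
    simp only [Set.mem_setOf_eq, Ideal.map_le_iff_le_comap]
    refine ⟨fun h a ha => hpow k _ (h ha), fun h a ha => ?_⟩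
    show ι (algebraMap A B a) ∈ maximalIdeal W ^ k
    rw [← hPW, ← Ideal.map_pow]
    exact Ideal.mem_map_of_mem _ (h ha)
  have hdvd : ∀ n ∈ [Ideal.ramificationIdx' (maximalIdeal A) P, Module.finrank (A ⧸ maximalIdeal A) (B ⧸ P)],
      n ∣ Module.finrank K L := by
    have h := Ideal.ncard_primesOver_mul_ramificationIdxIn_mul_inertiaDegIn (maximalIdeal A) B Gal(L/K)
    rw [Ideal.ramificationIdxIn_eq_ramificationIdx (maximalIdeal A) P Gal(L/K),
      Ideal.inertiaDegIn_eq_inertiaDeg (maximalIdeal A) P Gal(L/K), IsGalois.card_aut_eq_finrank,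
      Ideal.inertiaDeg_eq_of_isMaximal (maximalIdeal A) P,
      ← Ideal.ramificationIdx'_eq_ramificationIdx (maximalIdeal A) P (IsDiscreteValuationRing.not_a_field A)] at h
    intro n hn
    rcases List.mem_pair.1 hn with rfl | rfl
    · rw [← h]; exact Dvd.dvd.mul_left (dvd_mul_right _ _) _
    · rw [← h]; exact Dvd.dvd.mul_left (dvd_mul_left _ _) _
  exact hidx ▸ hdvd _ (by simp)

/-- If `L/K` is tame with respect to `A` and the index of the DVR `D ⊂ K'` over `A` is divisible by all
possible tame indices of `L`, every compositum `M` of `L` and `K'` is unramified over `D`. -/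
theorem unramified_of_absorb_idx {A K L D K' M : Type u} [CommRing A] [IsDomain A] [IsDiscreteValuationRing A]
    [Field K] [Algebra A K] [IsFractionRing A K] [Field L] [Algebra K L] [FiniteDimensional K L]
    [CommRing D] [IsDomain D] [IsDiscreteValuationRing D] [Algebra A D] [IsLocalHom (algebraMap A D)]
    [Field K'] [Algebra K K'] [FiniteDimensional K K'] [Algebra D K'] [IsFractionRing D K']
    (hAD : ∀ a : A, algebraMap K K' (algebraMap A K a) = algebraMap D K' (algebraMap A D a))
    [Field M] [Algebra K M] [Algebra L M] [Algebra K' M] [IsScalarTower K L M] [IsScalarTower K K' M]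
    [FiniteDimensional K M] (hgen : Algebra.adjoin L (Set.range (algebraMap K' M)) = ⊤)
    (hL : EtRam.IsTamelyRamified A ((algebraMap K L).comp (algebraMap A K)))
    {π : A} (hπ : Irreducible π) {ϖ : D} (hϖ : Irreducible ϖ) {N : ℕ} {u : Dˣ}
    (hu : algebraMap A D π = u * ϖ ^ N)
    (hdiv : ∀ (V : ValuationSubring L) (hV : EtRam.Dominates A ((algebraMap K L).comp (algebraMap A K)) V),
      letI : Algebra A V := (RingHom.codRestrict ((algebraMap K L).comp (algebraMap A K)) V hV.1).toAlgebra
      ∀ [IsLocalHom (algebraMap A V)], Ideal.ramificationIdx' (maximalIdeal A) (maximalIdeal V) ∣ N) :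
    EtRam.IsUnramifiedExt D ((algebraMap K' M).comp (algebraMap D K')) := by
  classical
  intro W hW
  letI : Algebra D W := (RingHom.codRestrict ((algebraMap K' M).comp (algebraMap D K')) W hW.1).toAlgebra
  intro hlDW
  have hdA : EtRam.Dominates A ((algebraMap K M).comp (algebraMap A K)) W := by
    have h : ∀ a, (algebraMap K M).comp (algebraMap A K) a =
        (algebraMap K' M).comp (algebraMap D K') (algebraMap A D a) := fun a => by
      simp only [RingHom.comp_apply]
      rw [← hAD, ← IsScalarTower.algebraMap_apply K K' M]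
    exact ⟨fun a => by rw [h]; exact hW.1 _,
      fun a ha => by rw [h]; exact hW.2 _ fun h1 => ha (isUnit_of_map_unit (algebraMap A D) a h1)⟩
  haveI : FiniteDimensional L M := FiniteDimensional.right K L M
  -- the valuation of `L`
  let V := W.comap (algebraMap L M)
  have hV := EtRamTameLib.dominates_comap (L := L) W hdA
  letI : Algebra A V := (RingHom.codRestrict ((algebraMap K L).comp (algebraMap A K)) V hV.1).toAlgebra
  haveI hlV : IsLocalHom (algebraMap A V) := EtRamTameLib.isLocalHom_of_dominates V hV
  haveI hDV := EtRamTameLib.isDVR (A := A) (K := K) V hV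
  obtain ⟨ϖV, hϖV⟩ := IsDiscreteValuationRing.exists_irreducible V
  have hinjV : Function.Injective (algebraMap A V) := fun a b h =>
    IsFractionRing.injective A K ((algebraMap K L).injective (congrArg Subtype.val h))
  obtain ⟨e, v, he, hv, hidx⟩ := EtRamTameLib.exists_idx (A := A) (V := V) hinjV hπ hϖV
  obtain ⟨hsepV, hp⟩ := hL V hV
  have hchar : (e : ResidueField A) ≠ 0 := (EtRamTameLib.prime_to_iff he).1 (hidx ▸ hp)
  have hedvd : e ∣ N := hidx ▸ hdiv V hV
  haveI := hsepV
  haveI : Algebra.FormallyEtale (ResidueField A) (ResidueField V) := Algebra.FormallyEtale.of_isSeparable _ _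
  haveI : Algebra.IsGeometricallyReduced (ResidueField A) (ResidueField V) :=
    CohenLib.isGeometricallyReduced_of_formallySmooth
  -- the valuation of `K'` is `D`
  let V' := W.comap (algebraMap K' M)
  let φ : D →+* V' := (algebraMap D K').codRestrict V' fun d => hW.1 d
  have hφinj : Function.Injective φ := fun a b h => IsFractionRing.injective D K' (congrArg Subtype.val h)
  have hφsurj : Function.Surjective φ := fun x => by
    rcases ValuationRing.isInteger_or_isInteger D (x : K') with ⟨d, hd⟩ | ⟨d, hd⟩
    · exact ⟨d, Subtype.ext hd⟩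
    · by_cases hdu : IsUnit d
      · refine ⟨((hdu.unit⁻¹ : Dˣ) : D), Subtype.ext ?_⟩
        show algebraMap D K' _ = x
        rw [← inv_inv (x : K'), ← hd, map_units_inv, IsUnit.unit_spec]
      · by_cases hx0 : (x : K') = 0
        · exact ⟨0, Subtype.ext (by rw [map_zero]; exact hx0.symm)⟩
        exfalso
        have h1 := hW.2 d hdu
        rw [RingHom.comp_apply, hd, map_inv₀, map_inv₀] at h1
        have h2 := (W.valuation_le_one_iff _).2 x.2
        exact not_le.2 h1 ((one_le_inv₀ (zero_lt_iff.2 ((_root_.map_ne_zero _).2 ((_root_.map_ne_zero _).2 hx0)))).2 h2)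
  let eD : D ≃+* V' := RingEquiv.ofBijective φ ⟨hφinj, hφsurj⟩
  have hAV : ∀ a : A, algebraMap K K' (algebraMap A K a) ∈ V' := fun a => by
    rw [hAD]; exact (φ (algebraMap A D a)).2
  letI : Algebra A V' := (RingHom.codRestrict ((algebraMap K K').comp (algebraMap A K)) V' hAV).toAlgebra
  have hAV' : ∀ a : A, algebraMap A V' a = eD (algebraMap A D a) := fun a => Subtype.ext (hAD a)
  haveI : IsDiscreteValuationRing V' := IsDiscreteValuationRing.RingEquivClass.isDiscreteValuationRing eD
  have hidx' : Ideal.ramificationIdx' (maximalIdeal A) (maximalIdeal V') = N :=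
    SolSepLib.ramIdx_eq hπ (ϖ := eD ϖ) (((MulEquiv.irreducible_iff eD).2 hϖ).maximalIdeal_eq)
      ((MulEquiv.irreducible_iff eD).2 hϖ).ne_zero (w := eD u) (u.isUnit.map eD)
      (by rw [hAV', hu, map_mul, map_pow])
  obtain ⟨hw, hgr⟩ := SolSepLib.abhyankar (A := A) (B := V) (K := K) (L := L) (K₁ := K') (M := M)
    hinjV (fun _ => rfl) hπ hϖV he hv hchar hgen W (EtRamTameLib.dominates_top W) hAV
    (by rw [hidx']; exact hedvd)
  letI : Algebra V' W := (EtRam.inclOfComap W (algebraMap K' M)).toAlgebra
  haveI : IsLocalHom (algebraMap V' W) := EtRam.isLocalHom_inclOfComap W (algebraMap K' M)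
  have hcomp : algebraMap D W = (algebraMap V' W).comp (eD : D →+* V') := RingHom.ext fun _ => Subtype.ext rfl
  have hsep : Algebra.IsSeparable (ResidueField V') (ResidueField W) := by
    haveI : Algebra.IsGeometricallyReduced (ResidueField V') (ResidueField W) := by
      convert hgr using 1
      exact Algebra.algebra_ext _ _ fun c => by
        obtain ⟨c, rfl⟩ := residue_surjective c
        rfl
    haveI : FiniteDimensional K' M := FiniteDimensional.right K K' M
    haveI : Module.Finite (ResidueField V') (ResidueField W) :=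
      SolSepLib.finite_residue (A := V') (K := K') W fun _ => rfl
    exact EtRamTameLib.isSeparable_of_geomRed
  refine ⟨?_, Algebra.IsSeparable.of_equiv_equiv (ResidueField.mapEquiv eD.symm) (RingEquiv.refl _) ?_⟩
  · have hw' : (maximalIdeal V').map (algebraMap V' W) = maximalIdeal W := hw
    show (maximalIdeal D).map (algebraMap D W) = maximalIdeal W
    rw [← hw', hcomp, ← Ideal.map_map]
    congr 1
    exact IsLocalRing.eq_maximalIdeal (Ideal.map_isMaximal_of_equiv eD)
  · refine RingHom.ext fun y => ?_
    obtain ⟨y, rfl⟩ := residue_surjective y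
    show residue W (algebraMap D W (eD.symm y)) = residue W (algebraMap V' W y)
    rw [hcomp]
    exact congrArg (fun z => residue W (algebraMap V' W z)) (eD.apply_symm_apply y)


end AbhyCurve
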